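import Mathlib
import Groth.Prelude.Def_DRing3
import Groth.Agent.Lib.Helper5.KInj.Derived
import Groth.Agent.Lib.Helper5.TorAmp.FlatAcyc
import Groth.Agent.Lib.Helper5.DComp.ModelH

/-!
# `RΓ_I` via K-injective resolutions
-/

set_option autoImplicit false
universe u
open CategoryTheory Limits

attribute [local instance] HasDerivedCategory.standard

namespace Helper5.RGam

variable {A : Type u} [CommRing A] (I : Ideal A)

theorem hasKInjRes_moduleCat : Helper5.KInj.HasKInjRes (ModuleCat.{u} A) :=
  Helper5.KInj.hasKInjRes_of_exact_products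

/-- termwise `Γ_I` of a complex -/
noncomputable abbrev gammaCx (J : CochainComplex (ModuleCat.{u} A) ℤ) :
    CochainComplex (ModuleCat.{u} A) ℤ :=
  ((DRing.gammaI I).mapHomologicalComplex (ComplexShape.up ℤ)).obj J

/-- `RΓ_I` of a K-injective complex is computed termwise -/
noncomputable def rgammaIso [DRing.HasRgammaI I] (J : CochainComplex (ModuleCat.{u} A) ℤ)
    [J.IsKInjective] :
    (DRing.RgammaI I).obj (DerivedCategory.Q.obj J) ≅ DerivedCategory.Q.obj (gammaCx I J) := by
  haveI := Helper5.KInj.isIso_app_of_isKInjective (DRing.gammaIKh I) hasKInjRes_moduleCat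
    (DRing.RgammaI I)
    ((DRing.gammaIKh I).totalRightDerivedUnit DerivedCategory.Qh
      (HomotopyCategory.quasiIso (ModuleCat.{u} A) (ComplexShape.up ℤ))) J
  exact (asIso (((DRing.gammaIKh I).totalRightDerivedUnit DerivedCategory.Qh
      (HomotopyCategory.quasiIso (ModuleCat.{u} A) (ComplexShape.up ℤ))).app
        ((HomotopyCategory.quotient _ _).obj J))).symm ≪≫
    DerivedCategory.Qh.mapIso
      (((DRing.gammaI I).mapHomotopyCategoryFactors (ComplexShape.up ℤ)).app J)

lemma gamma_map_smul (J : CochainComplex (ModuleCat.{u} A) ℤ) (f : A) :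
    ((DRing.gammaI I).mapHomologicalComplex (ComplexShape.up ℤ)).map (f • 𝟙 J) =
      f • 𝟙 (gammaCx I J) := by
  ext n x
  rfl

/-- every class in `H^n(Γ_I J)` is killed by a power of `f ∈ I` -/
lemma exists_pow_smul_eq_zero (J : CochainComplex (ModuleCat.{u} A) ℤ) (f : A) (hf : f ∈ I)
    (n : ℤ) (x : (gammaCx I J).homology n) : ∃ N : ℕ, f ^ N • x = 0 := by
  have hsurj : Function.Surjective ((gammaCx I J).homologyπ n).hom :=
    (ModuleCat.epi_iff_surjective _).1 inferInstance
  obtain ⟨z, rfl⟩ := hsurj x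
  obtain ⟨N, hN⟩ := (((gammaCx I J).iCycles n).hom z).2
  refine ⟨N, ?_⟩
  have h1 : f ^ N • z = 0 := by
    have hinj : Function.Injective ((gammaCx I J).iCycles n).hom :=
      (ModuleCat.mono_iff_injective _).1 inferInstance
    apply hinj
    rw [map_smul, map_zero]
    apply Subtype.ext
    exact hN (f ^ N) (Ideal.pow_mem_pow hf N)
  rw [← map_smul, h1, map_zero]

theorem acyclic_gammaCx (J : CochainComplex (ModuleCat.{u} A) ℤ) [J.IsKInjective] (f : A)
    (hf : f ∈ I) (hq : QuasiIso (f • 𝟙 J)) : (gammaCx I J).Acyclic := by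
  obtain ⟨e, he⟩ := (CochainComplex.IsKInjective.quasiIso_iff (f • 𝟙 J)).1 hq
  have hq' : QuasiIso (f • 𝟙 (gammaCx I J)) := by
    rw [← gamma_map_smul, ← he]
    exact ((DRing.gammaI I).mapHomotopyEquiv e).quasiIso_hom
  intro n
  rw [HomologicalComplex.exactAt_iff_isZero_homology]
  have hiso : IsIso (HomologicalComplex.homologyMap (f • 𝟙 (gammaCx I J)) n) := by
    rw [← quasiIsoAt_iff_isIso_homologyMap]
    infer_instance
  rw [Helper5.DComp.homologyMap_smul_id] at hiso
  have hbij : Function.Bijective (fun x : (gammaCx I J).homology n => f • x) :=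
    (ConcreteCategory.isIso_iff_bijective (f • 𝟙 ((gammaCx I J).homology n))).1 hiso
  have hpow : ∀ N : ℕ, ∀ x : (gammaCx I J).homology n, f ^ N • x = 0 → x = 0 := by
    intro N
    induction N with
    | zero => intro x hx; simpa using hx
    | succ N ih =>
      intro x hx
      apply ih
      apply hbij.1
      change f • (f ^ N • x) = f • 0
      rw [smul_zero, smul_smul, ← pow_succ']
      exact hx
  haveI : Subsingleton ((gammaCx I J).homology n) := by
    refine ⟨fun x y => ?_⟩
    obtain ⟨N, hN⟩ := exists_pow_smul_eq_zero I J f hf n x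
    obtain ⟨N', hN'⟩ := exists_pow_smul_eq_zero I J f hf n y
    rw [hpow N x hN, hpow N' y hN']
  exact ModuleCat.isZero_of_subsingleton _

/-- `RΓ_I K = 0` when some `f ∈ I` acts bijectively on the terms of `K` -/
theorem isZero_rgamma_of_smul_bijective [DRing.HasRgammaI I]
    (K : CochainComplex (ModuleCat.{u} A) ℤ) (f : A) (hf : f ∈ I)
    (hK : ∀ n : ℤ, Function.Bijective (fun x : K.X n => f • x)) :
    IsZero ((DRing.RgammaI I).obj (DerivedCategory.Q.obj K)) := by
  obtain ⟨J, j, hJ, hj⟩ := hasKInjRes_moduleCat K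
  haveI : IsIso (DerivedCategory.Q.map j) := by
    rw [DerivedCategory.isIso_Q_map_iff_quasiIso]
    exact hj
  refine IsZero.of_iso ?_ ((DRing.RgammaI I).mapIso (asIso (DerivedCategory.Q.map j)))
  refine IsZero.of_iso ?_ (rgammaIso I J)
  rw [Groth.Agent.Helper5.FlatAcyc.isZero_Q_iff_acyclic]
  apply acyclic_gammaCx I J f hf
  -- `f` is a quasi-isomorphism on `J`
  haveI : IsIso (f • 𝟙 K) := by
    haveI : ∀ n, IsIso ((f • 𝟙 K).f n) := by
      intro n
      rw [ConcreteCategory.isIso_iff_bijective]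
      exact hK n
    exact HomologicalComplex.Hom.isIso_of_components _
  have hcomm : j ≫ (f • 𝟙 J) = (f • 𝟙 K) ≫ j := by
    rw [Linear.comp_smul, Linear.smul_comp, Category.comp_id, Category.id_comp]
  haveI : QuasiIso (j ≫ (f • 𝟙 J)) := by
    rw [hcomm]
    infer_instance
  exact quasiIso_of_comp_left j (f • 𝟙 J)

end Helper5.RGam
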