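import Mathlib
import Groth.Agent.Lib.Helper5.KInj.Resolution

/-!
# K-injective resolutions with injective terms
-/

open CategoryTheory Limits CochainComplex HomologicalComplex

namespace Helper5.KInj

universe v u

section

variable {A : Type u} [Category.{v} A] [Abelian A] [HasLimitsOfShape (Discrete ℕ) A]
variable (I : ℕ → CochainComplex A ℤ) (p : ∀ n, I (n + 1) ⟶ I n)
variable (hp : ∀ n k, ∃ σ : (I n).X k ⟶ (I (n + 1)).X k, σ ≫ (p n).f k = 𝟙 _)

include hp in
theorem injective_holim_X [∀ n k, Injective ((I n).X k)] (k : ℤ) :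
    Injective ((holim I p).X k) := by
  obtain ⟨s, hs⟩ := exists_section_Dm I p hp k
  have spl : ((holimSC I p).map (HomologicalComplex.eval A (ComplexShape.up ℤ) k)).Splitting := by
    refine ShortComplex.Splitting.ofExactOfSection _
      ((holimSC_exact I p).map (HomologicalComplex.eval A (ComplexShape.up ℤ) k)) s hs ?_
    change Mono ((holimι I p).f k)
    infer_instance
  haveI : Injective ((prodCx I).X k) := by
    rw [prodCx_X]
    infer_instance
  exact Retract.injective (Y := (prodCx I).X k) ⟨(holimι I p).f k, spl.r, spl.f_r⟩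

end

variable {A : Type u} [Category.{v} A] [Abelian A] [EnoughInjectives A]
variable [HasLimitsOfShape (Discrete ℕ) A] [HasExactLimitsOfShape (Discrete ℕ) A]

/-- K-injective resolutions with injective terms exist -/
theorem exists_kinjective_resolution' (K : CochainComplex A ℤ) :
    ∃ (I : CochainComplex A ℤ) (f : K ⟶ I), I.IsKInjective ∧ QuasiIso f ∧
      ∀ k, Injective (I.X k) := by
  refine ⟨holim (tI K) (tp K), holimLift (tI K) (tp K) (ta K) (ta_tp K),
    isKInjective_holim _ _ (exists_section_tp K),
    quasiIso_holimLift _ _ (exists_section_tp K) _ _ (fun m => ⟨(-m).toNat, fun n hn => ?_⟩),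
    fun k => injective_holim_X _ _ (exists_section_tp K) k⟩
  apply quasiIsoAt_ta
  have := Int.self_le_toNat (-m)
  have h2 : ((-m).toNat : ℤ) ≤ (n : ℤ) := by exact_mod_cast hn
  lia

end Helper5.KInj
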