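import Mathlib
import Groth.Prelude.Def_DRing3

/-!
# `I`-power torsion in injective modules over a Noetherian ring
-/

set_option autoImplicit false
universe u
open CategoryTheory

namespace Helper5.RGam

open DRing

variable {A : Type u} [CommRing A]

section Basic

variable {M : Type u} [AddCommGroup M] [Module A M]

lemma torsionSub_anti {I I' : Ideal A} (h : I ≤ I') : torsionSub I' M ≤ torsionSub I M :=
  fun _ ⟨n, hn⟩ => ⟨n, fun a ha => hn a (Ideal.pow_right_mono h n ha)⟩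

lemma mem_torsionSub_sup {I₁ I₂ : Ideal A} (x : M) (h1 : x ∈ torsionSub I₁ M)
    (h2 : x ∈ torsionSub I₂ M) : x ∈ torsionSub (I₁ ⊔ I₂) M := by
  obtain ⟨a, ha⟩ := h1
  obtain ⟨b, hb⟩ := h2
  refine ⟨a + b, fun c hc => ?_⟩
  have hc' : c ∈ I₁ ^ a ⊔ I₂ ^ b := Ideal.sup_pow_add_le_pow_sup_pow hc
  obtain ⟨u, hu, v, hv, rfl⟩ := Submodule.mem_sup.1 hc'
  rw [add_smul, ha u hu, hb v hv, add_zero]

lemma mem_torsionSub_span_singleton (f : A) (x : M) :
    x ∈ torsionSub (Ideal.span {f}) M ↔ ∃ N : ℕ, f ^ N • x = 0 := by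
  constructor
  · rintro ⟨n, hn⟩
    exact ⟨n, hn _ (Ideal.pow_mem_pow (Ideal.mem_span_singleton_self f) n)⟩
  · rintro ⟨n, hn⟩
    refine ⟨n, fun a ha => ?_⟩
    rw [Ideal.span_singleton_pow, Ideal.mem_span_singleton'] at ha
    obtain ⟨c, rfl⟩ := ha
    rw [mul_smul, hn, smul_zero]

/-- a finitely generated submodule of the torsion submodule is killed by a power of `I` -/
lemma exists_pow_smul_eq_zero_of_fg (I : Ideal A) (N : Submodule A M) (hN : N.FG)
    (h : N ≤ torsionSub I M) : ∃ n : ℕ, ∀ a ∈ I ^ n, ∀ x ∈ N, a • x = 0 := by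
  revert h
  refine Submodule.fg_induction (R := A) (M := M)
    (motive := fun N _ => N ≤ torsionSub I M → ∃ n : ℕ, ∀ a ∈ I ^ n, ∀ x ∈ N, a • x = 0)
    ?_ ?_ N hN
  · intro x hx
    obtain ⟨n, hn⟩ := hx (Submodule.mem_span_singleton_self x)
    refine ⟨n, fun a ha y hy => ?_⟩
    obtain ⟨c, rfl⟩ := Submodule.mem_span_singleton.1 hy
    rw [smul_comm, hn a ha, smul_zero]
  · intro N₁ N₂ _ _ h₁ h₂ h
    obtain ⟨n₁, hn₁⟩ := h₁ (le_sup_left.trans h)
    obtain ⟨n₂, hn₂⟩ := h₂ (le_sup_right.trans h)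
    refine ⟨max n₁ n₂, fun a ha y hy => ?_⟩
    obtain ⟨y₁, hy₁, y₂, hy₂, rfl⟩ := Submodule.mem_sup.1 hy
    rw [smul_add, hn₁ a (Ideal.pow_le_pow_right (le_max_left _ _) ha) y₁ hy₁,
      hn₂ a (Ideal.pow_le_pow_right (le_max_right _ _) ha) y₂ hy₂, add_zero]

end Basic

section Noeth

variable [IsNoetherianRing A] (I : Ideal A) (E : Type u) [AddCommGroup E] [Module A E]
  [Module.Injective A E]

/-- over a Noetherian ring the torsion submodule of an injective module is injective -/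
theorem injective_torsionSub : Module.Injective A (torsionSub I E) := by
  apply Module.Baer.injective
  intro 𝔞 g
  let g₀ : 𝔞 →ₗ[A] E := (torsionSub I E).subtype ∘ₗ g
  have hfg : (LinearMap.range g₀).FG := by
    rw [← Module.Finite.iff_fg]
    infer_instance
  have hle : LinearMap.range g₀ ≤ torsionSub I E := by
    rintro _ ⟨x, rfl⟩
    exact (g x).2
  obtain ⟨n, hn⟩ := exists_pow_smul_eq_zero_of_fg I _ hfg hle
  obtain ⟨k, hk⟩ := Ideal.exists_pow_inf_eq_pow_smul I (𝔞 : Submodule A A)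
  -- elements of `𝔞 ∩ I^(n+k)` are killed by `g₀`
  have hkill : ∀ (x : A) (hx : x ∈ 𝔞), x ∈ I ^ (n + k) → g₀ ⟨x, hx⟩ = 0 := by
    intro x hx hxI
    have h1 : x ∈ (I ^ (n + k) • ⊤ ⊓ 𝔞 : Submodule A A) := by
      refine ⟨?_, hx⟩
      rw [smul_eq_mul, Ideal.mul_top]
      exact hxI
    rw [hk (n + k) (Nat.le_add_left k n), Nat.add_sub_cancel] at h1
    have h2 : (I ^ n • (I ^ k • ⊤ ⊓ 𝔞 : Submodule A A) : Submodule A A) ≤
        (LinearMap.ker g₀).map 𝔞.subtype := by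
      rw [Submodule.smul_le]
      intro r hr y hy
      refine ⟨⟨r • y, 𝔞.smul_mem r hy.2⟩, ?_, rfl⟩
      rw [SetLike.mem_coe, LinearMap.mem_ker]
      have h3 : (⟨r • y, 𝔞.smul_mem r hy.2⟩ : 𝔞) = r • ⟨y, hy.2⟩ := rfl
      rw [h3, map_smul]
      exact hn r hr _ ⟨_, rfl⟩
    obtain ⟨⟨x', hx'⟩, hx'k, hx'e⟩ := h2 h1
    have h4 : x' = x := hx'e
    subst h4
    exact hx'k
  let φ : 𝔞 →ₗ[A] A ⧸ I ^ (n + k) := (I ^ (n + k)).mkQ ∘ₗ 𝔞.subtype
  have hker : LinearMap.ker φ ≤ LinearMap.ker g₀ := by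
    rintro ⟨x, hx⟩ hxφ
    rw [LinearMap.mem_ker] at hxφ ⊢
    apply hkill x hx
    exact (Submodule.Quotient.mk_eq_zero _).1 hxφ
  let φ' : (𝔞 ⧸ LinearMap.ker φ) →ₗ[A] A ⧸ I ^ (n + k) :=
    (LinearMap.ker φ).liftQ φ le_rfl
  have hφ' : Function.Injective φ' := by
    rw [← LinearMap.ker_eq_bot]
    exact Submodule.ker_liftQ_eq_bot _ _ _ le_rfl
  let g' : (𝔞 ⧸ LinearMap.ker φ) →ₗ[A] E := (LinearMap.ker φ).liftQ g₀ hker
  obtain ⟨h, hh⟩ := Module.Injective.extension_property A E _ _ φ' hφ' g'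
  let g'' : A →ₗ[A] E := h ∘ₗ (I ^ (n + k)).mkQ
  have hmem : ∀ x, g'' x ∈ torsionSub I E := by
    intro x
    refine ⟨n + k, fun a ha => ?_⟩
    change a • h (Submodule.Quotient.mk x) = 0
    rw [← map_smul, ← Submodule.Quotient.mk_smul, smul_eq_mul,
      (Submodule.Quotient.mk_eq_zero (I ^ (n + k))).2 (Ideal.mul_mem_right _ _ ha), map_zero]
  refine ⟨LinearMap.codRestrict (torsionSub I E) g'' hmem, fun x hx => ?_⟩
  apply Subtype.ext
  change h (Submodule.Quotient.mk x) = (g ⟨x, hx⟩).1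
  have h5 := congrArg (fun t => t (Submodule.Quotient.mk ⟨x, hx⟩)) hh
  exact h5

/-- in an injective module over a Noetherian ring every element is divisible by `f^k` modulo
`f`-power torsion -/
theorem exists_div_mod_torsion (f : A) (k : ℕ) (y : E) :
    ∃ (y' : E) (N : ℕ), f ^ N • (f ^ k • y' - y) = 0 := by
  let ann : ℕ →o Submodule A A :=
    { toFun := fun n => LinearMap.ker (LinearMap.toSpanSingleton A A (f ^ n))
      monotone' := by
        apply monotone_nat_of_le_succ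
        intro n a ha
        rw [LinearMap.mem_ker, LinearMap.toSpanSingleton_apply, smul_eq_mul] at ha ⊢
        rw [pow_succ, ← mul_assoc, ha, zero_mul] }
  obtain ⟨N, hN⟩ := monotone_stabilizes_iff_noetherian.2 (inferInstance : IsNoetherian A A) ann
  let ψ : A →ₗ[A] A := LinearMap.toSpanSingleton A A (f ^ (N + k))
  let φ : A →ₗ[A] E := LinearMap.toSpanSingleton A E (f ^ N • y)
  have hker : LinearMap.ker ψ ≤ LinearMap.ker φ := by
    intro a ha
    have h1 : a ∈ ann (N + k) := ha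
    rw [← hN (N + k) (Nat.le_add_right N k)] at h1
    have h2 : a * f ^ N = 0 := by
      have := (LinearMap.mem_ker).1 h1
      rwa [LinearMap.toSpanSingleton_apply, smul_eq_mul] at this
    rw [LinearMap.mem_ker, LinearMap.toSpanSingleton_apply, smul_smul, h2, zero_smul]
  let ψ' : (A ⧸ LinearMap.ker ψ) →ₗ[A] A := (LinearMap.ker ψ).liftQ ψ le_rfl
  have hψ' : Function.Injective ψ' := by
    rw [← LinearMap.ker_eq_bot]
    exact Submodule.ker_liftQ_eq_bot _ _ _ le_rfl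
  let φ' : (A ⧸ LinearMap.ker ψ) →ₗ[A] E := (LinearMap.ker ψ).liftQ φ hker
  obtain ⟨h, hh⟩ := Module.Injective.extension_property A E _ _ ψ' hψ' φ'
  refine ⟨h 1, N, ?_⟩
  have h1 : h (f ^ (N + k)) = f ^ N • y := by
    have := congrArg (fun t => t (Submodule.Quotient.mk (1 : A))) hh
    have h2 : ψ' (Submodule.Quotient.mk (1 : A)) = f ^ (N + k) := by
      change (1 : A) • f ^ (N + k) = _
      rw [one_smul]
    have h3 : φ' (Submodule.Quotient.mk (1 : A)) = f ^ N • y := by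
      change (1 : A) • (f ^ N • y) = _
      rw [one_smul]
    change h (ψ' (Submodule.Quotient.mk (1 : A))) = φ' (Submodule.Quotient.mk (1 : A)) at this
    rwa [h2, h3] at this
  have h4 : h (f ^ (N + k)) = f ^ (N + k) • h 1 := by
    rw [← map_smul, smul_eq_mul, mul_one]
  rw [smul_sub, smul_smul, ← pow_add, ← h4, h1, sub_self]

end Noeth

end Helper5.RGam
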