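import Mathlib
import Groth.Prelude.Def_DRing3
import Groth.Agent.Lib.Helper5.RGam.Noeth
import Groth.Agent.Lib.Helper5.RGam.Gamma
import Groth.Agent.Lib.Helper5.Nak.SESTensor

/-!
# Over a Noetherian ring, `Γ_I X ⟶ X` is a quasi-isomorphism for complexes of injectives with
`I`-power torsion cohomology
-/

set_option autoImplicit false
universe u
open CategoryTheory CategoryTheory.Limits

attribute [local instance] HasDerivedCategory.standard

namespace Helper5.RGam

open DRing

variable {A : Type u} [CommRing A]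

/-- the cohomology of `X` is `I`-power torsion (elementwise) -/
def TorsCoh (I : Ideal A) (X : CochainComplex (ModuleCat.{u} A) ℤ) : Prop :=
  ∀ (m n k : ℤ), m + 1 = n → n + 1 = k → ∀ z : X.X n, (X.d n k).hom z = 0 →
    ∃ N : ℕ, ∀ a ∈ I ^ N, ∃ y : X.X m, (X.d m n).hom y = a • z

/-- the quotient `X / Γ_I X` is acyclic (elementwise) -/
def AcycQ (I : Ideal A) (X : CochainComplex (ModuleCat.{u} A) ℤ) : Prop :=
  ∀ (m n k : ℤ), m + 1 = n → n + 1 = k → ∀ x : X.X n,
    (X.d n k).hom x ∈ torsionSub I (X.X k) →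
    ∃ y : X.X m, x - (X.d m n).hom y ∈ torsionSub I (X.X n)

lemma TorsCoh.anti {I I' : Ideal A} (h : I ≤ I') {X : CochainComplex (ModuleCat.{u} A) ℤ}
    (hX : TorsCoh I' X) : TorsCoh I X := by
  intro m n k hmn hnk z hz
  obtain ⟨N, hN⟩ := hX m n k hmn hnk z hz
  exact ⟨N, fun a ha => hN a (Ideal.pow_right_mono h N ha)⟩

lemma d_d_apply (X : CochainComplex (ModuleCat.{u} A) ℤ) (l m n : ℤ) (w : X.X l) :
    (X.d m n).hom ((X.d l m).hom w) = 0 :=
  congrArg (fun t => t.hom w) (X.d_comp_d l m n)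

section Noeth

variable [IsNoetherianRing A]

theorem acycQ_principal (f : A) (X : CochainComplex (ModuleCat.{u} A) ℤ)
    (hinj : ∀ n, Module.Injective A (X.X n)) (hX : TorsCoh (Ideal.span {f}) X) :
    AcycQ (Ideal.span {f}) X := by
  intro m n k hmn hnk x hx
  rw [mem_torsionSub_span_singleton] at hx
  obtain ⟨M, hM⟩ := hx
  have hz : (X.d n k).hom (f ^ M • x) = 0 := by rw [map_smul, hM]
  obtain ⟨N, hN⟩ := hX m n k hmn hnk (f ^ M • x) hz
  obtain ⟨y, hy⟩ := hN (f ^ N) (by
    rw [Ideal.span_singleton_pow]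
    exact Ideal.mem_span_singleton_self _)
  haveI := hinj m
  obtain ⟨y', N', hy'⟩ := exists_div_mod_torsion (X.X m) f (N + M) y
  refine ⟨y', ?_⟩
  rw [mem_torsionSub_span_singleton]
  refine ⟨N' + (N + M), ?_⟩
  have e1 : (X.d m n).hom (f ^ N' • (f ^ (N + M) • y' - y)) = 0 := by rw [hy', map_zero]
  rw [map_smul, map_sub, map_smul, hy] at e1
  have e2 : f ^ (N + M) • x - f ^ (N + M) • (X.d m n).hom y' =
      -(f ^ (N + M) • (X.d m n).hom y' - f ^ N • f ^ M • x) := by
    rw [neg_sub, pow_add, mul_smul]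
  rw [pow_add f N' (N + M), mul_smul, smul_sub (f ^ (N + M)), e2, smul_neg, e1, neg_zero]

theorem acycQ_sup (I₁ I₂ : Ideal A)
    (h₁ : ∀ X : CochainComplex (ModuleCat.{u} A) ℤ, (∀ n, Module.Injective A (X.X n)) →
      TorsCoh I₁ X → AcycQ I₁ X)
    (h₂ : ∀ X : CochainComplex (ModuleCat.{u} A) ℤ, (∀ n, Module.Injective A (X.X n)) →
      TorsCoh I₂ X → AcycQ I₂ X)
    (X : CochainComplex (ModuleCat.{u} A) ℤ) (hinj : ∀ n, Module.Injective A (X.X n))
    (hX : TorsCoh (I₁ ⊔ I₂) X) : AcycQ (I₁ ⊔ I₂) X := by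
  have hA2 : AcycQ I₂ X := h₂ X hinj (hX.anti le_sup_right)
  have hinj' : ∀ n, Module.Injective A ((gammaCx I₂ X).X n) :=
    fun n => haveI := hinj n; injective_torsionSub I₂ (X.X n)
  have hT1 : TorsCoh I₁ (gammaCx I₂ X) := by
    intro m n k hmn hnk z hz
    obtain ⟨N, hN⟩ := hX m n k hmn hnk z.1 (congrArg Subtype.val hz)
    refine ⟨N, fun a ha => ?_⟩
    obtain ⟨y, hy⟩ := hN a (Ideal.pow_right_mono le_sup_left N ha)
    obtain ⟨w, hw⟩ := hA2 (m - 1) m n (by omega) hmn y (by
      rw [hy]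
      exact Submodule.smul_mem _ _ z.2)
    refine ⟨⟨y - (X.d (m - 1) m).hom w, hw⟩, ?_⟩
    apply Subtype.ext
    change (X.d m n).hom (y - (X.d (m - 1) m).hom w) = a • z.1
    rw [map_sub, d_d_apply, sub_zero, hy]
  have hA1 : AcycQ I₁ (gammaCx I₂ X) := h₁ _ hinj' hT1
  intro m n k hmn hnk x hx
  obtain ⟨y, hy⟩ := hA2 m n k hmn hnk x (torsionSub_anti le_sup_right hx)
  have hx1 : ((gammaCx I₂ X).d n k).hom ⟨x - (X.d m n).hom y, hy⟩ ∈
      torsionSub I₁ ((gammaCx I₂ X).X k) := by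
    obtain ⟨N, hN⟩ := hx
    refine ⟨N, fun a ha => ?_⟩
    apply Subtype.ext
    change a • (X.d n k).hom (x - (X.d m n).hom y) = 0
    rw [map_sub, d_d_apply, sub_zero]
    exact hN a (Ideal.pow_right_mono le_sup_left N ha)
  obtain ⟨y', hy'⟩ := hA1 m n k hmn hnk ⟨x - (X.d m n).hom y, hy⟩ hx1
  refine ⟨y + y'.1, ?_⟩
  have h1 : x - (X.d m n).hom (y + y'.1) =
      ((⟨x - (X.d m n).hom y, hy⟩ - ((gammaCx I₂ X).d m n).hom y' :
        (gammaCx I₂ X).X n)).1 := by
    rw [map_add, ← sub_sub]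
    rfl
  rw [h1]
  apply mem_torsionSub_sup
  · obtain ⟨N, hN⟩ := hy'
    exact ⟨N, fun a ha => congrArg Subtype.val (hN a ha)⟩
  · exact Subtype.property _

/-- **Key theorem**: over a Noetherian ring, for a complex of injectives with `I`-power torsion
cohomology, the quotient by `Γ_I` is acyclic. -/
theorem acycQ (I : Ideal A) : ∀ X : CochainComplex (ModuleCat.{u} A) ℤ,
    (∀ n, Module.Injective A (X.X n)) → TorsCoh I X → AcycQ I X :=
  Submodule.fg_induction (R := A) (M := A)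
    (motive := fun I _ => ∀ X : CochainComplex (ModuleCat.{u} A) ℤ,
      (∀ n, Module.Injective A (X.X n)) → TorsCoh I X → AcycQ I X)
    (fun f => acycQ_principal f) (fun I₁ I₂ _ _ h₁ h₂ => acycQ_sup I₁ I₂ h₁ h₂) I
    (IsNoetherian.noetherian I)

end Noeth

section Cx

variable (I : Ideal A) (X : CochainComplex (ModuleCat.{u} A) ℤ)

/-- the inclusion `Γ_I X ⟶ X` -/
noncomputable def gammaIncl : gammaCx I X ⟶ X where
  f n := (gammaIι I).app (X.X n)
  comm' _ _ _ := rfl

/-- the quotient complex `X / Γ_I X` -/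
noncomputable def quotCx : CochainComplex (ModuleCat.{u} A) ℤ where
  X n := ModuleCat.of A (X.X n ⧸ torsionSub I (X.X n))
  d i j := ModuleCat.ofHom (Submodule.mapQ _ _ (X.d i j).hom
    (fun _ hm => map_mem_torsionSub I _ hm))
  shape i j h := by
    apply ModuleCat.hom_ext
    apply LinearMap.ext
    intro x
    obtain ⟨x, rfl⟩ := Submodule.Quotient.mk_surjective _ x
    change Submodule.Quotient.mk ((X.d i j).hom x) = 0
    rw [X.shape i j h]
    rfl
  d_comp_d' i j k _ _ := by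
    apply ModuleCat.hom_ext
    apply LinearMap.ext
    intro x
    obtain ⟨x, rfl⟩ := Submodule.Quotient.mk_surjective _ x
    change Submodule.Quotient.mk ((X.d j k).hom ((X.d i j).hom x)) = 0
    rw [d_d_apply]
    rfl

/-- the projection `X ⟶ X / Γ_I X` -/
noncomputable def quotProj : X ⟶ quotCx I X where
  f n := ModuleCat.ofHom (torsionSub I (X.X n)).mkQ
  comm' _ _ _ := rfl

/-- the short exact sequence `0 → Γ_I X → X → X / Γ_I X → 0` -/
noncomputable def gammaSC : ShortComplex (CochainComplex (ModuleCat.{u} A) ℤ) :=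
  ShortComplex.mk (gammaIncl I X) (quotProj I X) (by
    ext n x
    exact (Submodule.Quotient.mk_eq_zero _).2 x.2)

lemma gammaSC_shortExact : (gammaSC I X).ShortExact := by
  apply HomologicalComplex.shortExact_of_degreewise_shortExact
  intro n
  apply ModuleCat.shortComplex_shortExact
  · intro x
    constructor
    · intro hx
      have hx' : (x : X.X n) ∈ torsionSub I (X.X n) :=
        (Submodule.Quotient.mk_eq_zero (torsionSub I (X.X n))).1 hx
      exact ⟨(⟨x, hx'⟩ : torsionSub I (X.X n)), rfl⟩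
    · rintro ⟨y, rfl⟩
      exact (Submodule.Quotient.mk_eq_zero (torsionSub I (X.X n))).2
        (y : torsionSub I (X.X n)).2
  · exact (Subtype.val_injective : Function.Injective
      (Subtype.val : torsionSub I (X.X n) → X.X n))
  · exact Submodule.Quotient.mk_surjective (torsionSub I (X.X n))

lemma acyclic_quotCx (h : AcycQ I X) : (quotCx I X).Acyclic := by
  intro n
  apply Groth.Agent.Helper5.FlatAcyc.exactAt_of_exact _ (n - 1) n (n + 1) (by omega) rfl
  intro x
  obtain ⟨x, rfl⟩ := Submodule.Quotient.mk_surjective _ x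
  constructor
  · intro hx
    have hx' : (X.d n (n + 1)).hom x ∈ torsionSub I (X.X (n + 1)) :=
      (Submodule.Quotient.mk_eq_zero _).1 hx
    obtain ⟨y, hy⟩ := h (n - 1) n (n + 1) (by omega) rfl x hx'
    refine ⟨Submodule.Quotient.mk y, ?_⟩
    change Submodule.Quotient.mk ((X.d (n - 1) n).hom y) = Submodule.Quotient.mk x
    symm
    rw [Submodule.Quotient.eq]
    exact hy
  · rintro ⟨y, hy⟩
    rw [← hy]
    exact congrArg (fun t => t.hom y) ((quotCx I X).d_comp_d (n - 1) n (n + 1))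

theorem quasiIso_gammaIncl (h : AcycQ I X) : QuasiIso (gammaIncl I X) :=
  Helper5.Nak.quasiIso_f_of_acyclic_X₃ (gammaSC_shortExact I X) (acyclic_quotCx I X h)

end Cx

end Helper5.RGam
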