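import Mathlib
import Groth.Prelude.Def_DRing3
import Groth.Prelude.Def_Wider
import Groth.Agent.Lib.Helper5.RGam.TorsQis
import Groth.Agent.Lib.Helper5.RGam.InjTerms
import Groth.Agent.Lib.Helper5.DComp.Iter

/-!
# The counit `RΓ_I K ⟶ K` and complexes with torsion cohomology
-/

set_option autoImplicit false
universe u
open CategoryTheory CategoryTheory.Limits

attribute [local instance] HasDerivedCategory.standard

namespace Helper5.RGam

open DRing DerivedCategory

variable {A : Type u} [CommRing A] (I : Ideal A)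

lemma torsCoh_of_homology (X : CochainComplex (ModuleCat.{u} A) ℤ)
    (h : ∀ n, LocCoh.IsPowerTorsion I (X.homology n)) : TorsCoh I X := by
  intro m n k hmn hnk z hz
  have hex1 : Function.Exact (X.iCycles n).hom (X.d n k).hom :=
    (ShortComplex.ShortExact.moduleCat_exact_iff_function_exact
      (ShortComplex.mk (X.iCycles n) (X.d n k) (X.iCycles_d n k))).1
      (ShortComplex.exact_of_f_is_kernel _ (X.cyclesIsKernel n k (by simp; omega)))
  obtain ⟨c, hc⟩ := (hex1 z).1 hz
  have hex2 : Function.Exact (X.toCycles m n).hom (X.homologyπ n).hom :=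
    (ShortComplex.ShortExact.moduleCat_exact_iff_function_exact
      (ShortComplex.mk (X.toCycles m n) (X.homologyπ n) (X.toCycles_comp_homologyπ m n))).1
      (ShortComplex.exact_of_g_is_cokernel _ (X.homologyIsCokernel m n (by simp; omega)))
  obtain ⟨N, hN⟩ := h n ((X.homologyπ n).hom c)
  refine ⟨N, fun a ha => ?_⟩
  have h0 : (X.homologyπ n).hom (a • c) = 0 := by rw [map_smul, hN a ha]
  obtain ⟨y, hy⟩ := (hex2 (a • c)).1 h0
  refine ⟨y, ?_⟩
  have h1 := congrArg (fun t => t.hom y) (X.toCycles_i m n)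
  have h2 : (X.iCycles n).hom ((X.toCycles m n).hom y) = (X.d m n).hom y := h1
  rw [← h2, hy, map_smul, hc]

lemma aux {C : Type*} [Category C] {W X Y Z : C} (a : W ⟶ X) [IsIso a] (b : W ⟶ Y) (c : Y ⟶ Z)
    (e : X ⟶ Z) (r : X ⟶ Y) (hr : r = inv a ≫ b) (h : a ≫ e = b ≫ c) : e = r ≫ c := by
  subst hr
  rw [Category.assoc, IsIso.eq_inv_comp]
  exact h

variable [HasRgammaI I]

/-- the counit on a K-injective complex is the inclusion `Γ_I J ⊆ J` -/
lemma RgammaIε_app_Q (J : CochainComplex (ModuleCat.{u} A) ℤ) [J.IsKInjective] :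
    (RgammaIε I).app (Q.obj J) = (rgammaIso I J).hom ≫ Q.map (gammaIncl I J) := by
  have h := Functor.rightDerived_fac_app (RgammaI I)
    ((gammaIKh I).totalRightDerivedUnit DerivedCategory.Qh
      (HomotopyCategory.quasiIso (ModuleCat.{u} A) (ComplexShape.up ℤ)))
    (HomotopyCategory.quasiIso (ModuleCat.{u} A) (ComplexShape.up ℤ)) (𝟭 (Dual.D A))
    (gammaIτ I ≫ (Functor.rightUnitor _).inv)
    ((HomotopyCategory.quotient (ModuleCat.{u} A) (ComplexShape.up ℤ)).obj J)
  haveI := Helper5.KInj.isIso_app_of_isKInjective (DRing.gammaIKh I) hasKInjRes_moduleCat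
    (DRing.RgammaI I)
    ((DRing.gammaIKh I).totalRightDerivedUnit DerivedCategory.Qh
      (HomotopyCategory.quasiIso (ModuleCat.{u} A) (ComplexShape.up ℤ))) J
  have hα : (rgammaIso I J).hom = inv (((gammaIKh I).totalRightDerivedUnit DerivedCategory.Qh
      (HomotopyCategory.quasiIso (ModuleCat.{u} A) (ComplexShape.up ℤ))).app
        ((HomotopyCategory.quotient _ _).obj J)) ≫
      DerivedCategory.Qh.map
        (((DRing.gammaI I).mapHomotopyCategoryFactors (ComplexShape.up ℤ)).hom.app J) := rfl
  have h2 : (gammaIτ I ≫ (Functor.rightUnitor _).inv).app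
      ((HomotopyCategory.quotient (ModuleCat.{u} A) (ComplexShape.up ℤ)).obj J) =
      DerivedCategory.Qh.map
        (((DRing.gammaI I).mapHomotopyCategoryFactors (ComplexShape.up ℤ)).hom.app J) ≫
      Q.map (gammaIncl I J) := by
    change (gammaIτ0 I).app J ≫ 𝟙 _ = _
    rw [Category.comp_id]
    simp only [gammaIτ0, NatTrans.comp_app, Functor.associator_inv_app, Functor.associator_hom_app,
      Functor.whiskerRight_app, Functor.leftUnitor_hom_app, Category.id_comp, Functor.comp_map]
    congr 1
    have h3 : gammaIncl I J = (NatTrans.mapHomologicalComplex (gammaIι I) (ComplexShape.up ℤ)).app J ≫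
        (Functor.mapHomologicalComplexIdIso (ModuleCat.{u} A) (ComplexShape.up ℤ)).hom.app J := by
      ext n x
      rfl
    have h4 : Q.map (gammaIncl I J) =
        Q.map ((NatTrans.mapHomologicalComplex (gammaIι I) (ComplexShape.up ℤ)).app J) ≫
        Q.map ((Functor.mapHomologicalComplexIdIso (ModuleCat.{u} A)
          (ComplexShape.up ℤ)).hom.app J) := by
      rw [h3]
      exact Q.map_comp _ _
    erw [Category.comp_id]
    exact h4.symm
  exact @aux _ _ _ _ _ _ _ this _ _ _ _ hα (h.trans h2)

omit [HasRgammaI I] in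
lemma isPowerTorsion_of_equiv {M N : Type u} [AddCommGroup M] [Module A M] [AddCommGroup N]
    [Module A N] (e : M ≃ₗ[A] N) (h : LocCoh.IsPowerTorsion I M) : LocCoh.IsPowerTorsion I N := by
  intro x
  obtain ⟨n, hn⟩ := h (e.symm x)
  refine ⟨n, fun a ha => ?_⟩
  have := congrArg e (hn a ha)
  rwa [map_smul, e.apply_symm_apply, map_zero] at this

omit [HasRgammaI I] in
/-- over a Noetherian ring, `Γ_I J ⟶ J` is a quasi-isomorphism for a complex of injectives whose
cohomology is `I`-power torsion -/
theorem quasiIso_gammaIncl_of_torsion [IsNoetherianRing A]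
    (J : CochainComplex (ModuleCat.{u} A) ℤ) (hinj : ∀ n, Injective (J.X n))
    (h : ∀ n, LocCoh.IsPowerTorsion I (J.homology n)) : QuasiIso (gammaIncl I J) := by
  refine quasiIso_gammaIncl I J (acycQ I J (fun n => ?_) (torsCoh_of_homology I J h))
  haveI : Injective (ModuleCat.of A (J.X n)) := hinj n
  exact Module.injective_module_of_injective_object A (J.X n)

/-- **S1813**: over a Noetherian ring, `RΓ_I K ⟶ K` is an isomorphism when the cohomology of `K`
is `I`-power torsion -/
theorem isIso_RgammaIε [IsNoetherianRing A] (K : Dual.D A)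
    (hK : ∀ i : ℤ, LocCoh.IsPowerTorsion I (Dual.HD A K i)) :
    IsIso ((RgammaIε I).app K) := by
  obtain ⟨J, f, hJ, hf, hinj⟩ :=
    Helper5.KInj.exists_kinjective_resolution' (A := ModuleCat.{u} A) (Q.objPreimage K)
  haveI := hJ
  haveI : IsIso (Q.map f) := (DerivedCategory.isIso_Q_map_iff_quasiIso (φ := f)).2 hf
  let e : K ≅ Q.obj J := (Q.objObjPreimageIso K).symm ≪≫ asIso (Q.map f)
  have hnat := (RgammaIε I).naturality e.hom
  suffices h : IsIso ((RgammaIε I).app (Q.obj J)) by
    have h1 : (RgammaIε I).app K =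
        (RgammaI I).map e.hom ≫ (RgammaIε I).app (Q.obj J) ≫ e.inv := by
      have h2 : (RgammaI I).map e.hom ≫ (RgammaIε I).app (Q.obj J) =
          (RgammaIε I).app K ≫ e.hom := hnat
      rw [← Category.assoc, h2, Category.assoc, e.hom_inv_id]
      exact (Category.comp_id _).symm
    rw [h1]
    infer_instance
  rw [RgammaIε_app_Q]
  haveI : QuasiIso (gammaIncl I J) := by
    apply quasiIso_gammaIncl_of_torsion I J hinj
    intro n
    refine isPowerTorsion_of_equiv I ?_ (hK n)
    exact (((DerivedCategory.homologyFunctor (ModuleCat.{u} A) n).mapIso e).toLinearEquiv).trans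
      (Helper5.DComp.HDQEquiv J n)
  haveI : IsIso (Q.map (gammaIncl I J)) :=
    (DerivedCategory.isIso_Q_map_iff_quasiIso (φ := gammaIncl I J)).2 inferInstance
  infer_instance

end Helper5.RGam
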