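import Mathlib
import Groth.Prelude.Def_DRing3
import Groth.Prelude.Def_Wider
import Groth.Agent.Lib.Helper5.RGam.Eps
import Groth.Agent.Lib.Helper5.KInj.DerivedQ

/-!
# `RΓ_I` over a Noetherian ring: the adjunction with the inclusion of torsion objects
-/

set_option autoImplicit false
universe u
open CategoryTheory CategoryTheory.Limits

attribute [local instance] HasDerivedCategory.standard

namespace Helper5.RGam

open DRing DerivedCategory CochainComplex

variable {A : Type u} [CommRing A] (I : Ideal A)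

/-- `Γ_I` on morphisms of complexes -/
noncomputable abbrev gammaMap {X Y : CochainComplex (ModuleCat.{u} A) ℤ} (φ : X ⟶ Y) :
    gammaCx I X ⟶ gammaCx I Y :=
  ((DRing.gammaI I).mapHomologicalComplex (ComplexShape.up ℤ)).map φ

lemma gammaIncl_naturality {X Y : CochainComplex (ModuleCat.{u} A) ℤ} (φ : X ⟶ Y) :
    gammaMap I φ ≫ gammaIncl I Y = gammaIncl I X ≫ φ := by
  ext n x
  rfl

lemma injective_mappingCone_X {X Y : CochainComplex (ModuleCat.{u} A) ℤ} (ρ : X ⟶ Y)
    (hX : ∀ n, Injective (X.X n)) (hY : ∀ n, Injective (Y.X n)) (n : ℤ) :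
    Injective ((mappingCone ρ).X n) := by
  haveI := hX (n + 1)
  haveI := hY n
  exact Injective.of_iso (HomologicalComplex.homotopyCofiber.XIsoBiprod ρ n (n + 1) rfl).symm
    inferInstance

theorem quasiIso_gammaMap [IsNoetherianRing A] {X Y : CochainComplex (ModuleCat.{u} A) ℤ}
    (ρ : X ⟶ Y) [QuasiIso ρ] (hX : ∀ n, Injective (X.X n)) (hY : ∀ n, Injective (Y.X n)) :
    QuasiIso (gammaMap I ρ) := by
  rw [Groth.Agent.Helper5.FlatAcyc.quasiIso_iff_acyclic_cone,
    ← Groth.Agent.Helper5.FlatAcyc.isZero_Q_iff_acyclic]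
  have hc : (mappingCone ρ).Acyclic :=
    (Groth.Agent.Helper5.FlatAcyc.quasiIso_iff_acyclic_cone ρ).1 inferInstance
  have hq : QuasiIso (gammaIncl I (mappingCone ρ)) := by
    apply quasiIso_gammaIncl_of_torsion I _ (injective_mappingCone_X ρ hX hY)
    intro n x
    have hz : IsZero ((mappingCone ρ).homology n) :=
      (HomologicalComplex.exactAt_iff_isZero_homology _ _).1 (hc n)
    haveI := ModuleCat.subsingleton_of_isZero hz
    exact ⟨0, fun a _ => by rw [Subsingleton.elim x 0, smul_zero]⟩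
  haveI : IsIso (Q.map (gammaIncl I (mappingCone ρ))) :=
    (DerivedCategory.isIso_Q_map_iff_quasiIso (φ := gammaIncl I (mappingCone ρ))).2 hq
  exact IsZero.of_iso ((Groth.Agent.Helper5.FlatAcyc.isZero_Q_iff_acyclic _).2 hc)
    ((Q.mapIso (mappingCone.mapHomologicalComplexIso ρ (DRing.gammaI I))).symm ≪≫
      asIso (Q.map (gammaIncl I (mappingCone ρ))))

lemma Q_gammaMap_eq_of_Q_eq {X J : CochainComplex (ModuleCat.{u} A) ℤ} [J.IsKInjective]
    {a b : X ⟶ J} (h : Q.map a = Q.map b) : Q.map (gammaMap I a) = Q.map (gammaMap I b) := by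
  obtain ⟨H⟩ := Helper5.KInj.nonempty_homotopy_of_Q_map_eq h
  exact DerivedCategory.Q_map_eq_of_homotopy (h := (DRing.gammaI I).mapHomotopy H)

lemma aux2 {C : Type*} [Category C] {W₁ W₂ X₁ X₂ Y₁ Y₂ : C} (a₁ : W₁ ⟶ X₁) (a₂ : W₂ ⟶ X₂)
    [IsIso a₁] [IsIso a₂] (b₁ : W₁ ⟶ Y₁) (b₂ : W₂ ⟶ Y₂) (w : W₁ ⟶ W₂) (x : X₁ ⟶ X₂) (y : Y₁ ⟶ Y₂)
    (r₁ : X₁ ⟶ Y₁) (r₂ : X₂ ⟶ Y₂) (hr₁ : r₁ = inv a₁ ≫ b₁) (hr₂ : r₂ = inv a₂ ≫ b₂)
    (h1 : w ≫ a₂ = a₁ ≫ x) (h2 : w ≫ b₂ = b₁ ≫ y) : x ≫ r₂ = r₁ ≫ y := by
  subst hr₁ hr₂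
  rw [← Category.assoc, Category.assoc (inv a₁), ← h2, ← Category.assoc]
  congr 1
  rw [IsIso.comp_inv_eq, Category.assoc, h1, IsIso.inv_hom_id_assoc]

variable [HasRgammaI I]

/-- naturality of `rgammaIso` -/
lemma rgammaIso_naturality {J₁ J₂ : CochainComplex (ModuleCat.{u} A) ℤ} [J₁.IsKInjective]
    [J₂.IsKInjective] (ψ : J₁ ⟶ J₂) :
    (RgammaI I).map (Q.map ψ) ≫ (rgammaIso I J₂).hom =
      (rgammaIso I J₁).hom ≫ Q.map (gammaMap I ψ) := by
  have i1 := Helper5.KInj.isIso_app_of_isKInjective (DRing.gammaIKh I) hasKInjRes_moduleCat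
    (DRing.RgammaI I)
    ((DRing.gammaIKh I).totalRightDerivedUnit DerivedCategory.Qh
      (HomotopyCategory.quasiIso (ModuleCat.{u} A) (ComplexShape.up ℤ))) J₁
  have i2 := Helper5.KInj.isIso_app_of_isKInjective (DRing.gammaIKh I) hasKInjRes_moduleCat
    (DRing.RgammaI I)
    ((DRing.gammaIKh I).totalRightDerivedUnit DerivedCategory.Qh
      (HomotopyCategory.quasiIso (ModuleCat.{u} A) (ComplexShape.up ℤ))) J₂
  have hα₁ : (rgammaIso I J₁).hom = inv (((gammaIKh I).totalRightDerivedUnit DerivedCategory.Qh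
      (HomotopyCategory.quasiIso (ModuleCat.{u} A) (ComplexShape.up ℤ))).app
        ((HomotopyCategory.quotient _ _).obj J₁)) ≫
      DerivedCategory.Qh.map
        (((DRing.gammaI I).mapHomotopyCategoryFactors (ComplexShape.up ℤ)).hom.app J₁) := rfl
  have hα₂ : (rgammaIso I J₂).hom = inv (((gammaIKh I).totalRightDerivedUnit DerivedCategory.Qh
      (HomotopyCategory.quasiIso (ModuleCat.{u} A) (ComplexShape.up ℤ))).app
        ((HomotopyCategory.quotient _ _).obj J₂)) ≫
      DerivedCategory.Qh.map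
        (((DRing.gammaI I).mapHomotopyCategoryFactors (ComplexShape.up ℤ)).hom.app J₂) := rfl
  have h1 := ((gammaIKh I).totalRightDerivedUnit DerivedCategory.Qh
      (HomotopyCategory.quasiIso (ModuleCat.{u} A) (ComplexShape.up ℤ))).naturality
        ((HomotopyCategory.quotient _ _).map ψ)
  have h2 : (gammaIKh I).map ((HomotopyCategory.quotient _ _).map ψ) ≫
      DerivedCategory.Qh.map
        (((DRing.gammaI I).mapHomotopyCategoryFactors (ComplexShape.up ℤ)).hom.app J₂) =
      DerivedCategory.Qh.map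
        (((DRing.gammaI I).mapHomotopyCategoryFactors (ComplexShape.up ℤ)).hom.app J₁) ≫
      Q.map (gammaMap I ψ) := by
    have h3 := ((DRing.gammaI I).mapHomotopyCategoryFactors (ComplexShape.up ℤ)).hom.naturality ψ
    have h4 := congrArg DerivedCategory.Qh.map h3
    rw [Functor.map_comp, Functor.map_comp] at h4
    exact h4
  exact @aux2 _ _ _ _ _ _ _ _ _ _ i1 i2 _ _ _ _ _ _ _ hα₁ hα₂ h1 h2

omit [HasRgammaI I] in
lemma injective_gammaCx_X [IsNoetherianRing A] (X : CochainComplex (ModuleCat.{u} A) ℤ)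
    (hX : ∀ n, Injective (X.X n)) (n : ℤ) : Injective ((gammaCx I X).X n) := by
  haveI : Injective (ModuleCat.of A (X.X n)) := hX n
  haveI : Module.Injective A (X.X n) := Module.injective_module_of_injective_object A (X.X n)
  haveI := injective_torsionSub I (X.X n)
  exact Module.injective_object_of_injective_module A (torsionSub I (X.X n))

omit [HasRgammaI I] in
lemma isIso_gammaMap_gammaIncl (X : CochainComplex (ModuleCat.{u} A) ℤ) :
    IsIso (gammaMap I (gammaIncl I X)) := by
  haveI : ∀ n, IsIso ((gammaMap I (gammaIncl I X)).f n) := by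
    intro n
    rw [ConcreteCategory.isIso_iff_bijective]
    constructor
    · intro x y h
      apply Subtype.ext
      apply Subtype.ext
      exact congrArg Subtype.val h
    · rintro ⟨x, N, hN⟩
      exact ⟨⟨⟨x, N, hN⟩, N, fun a ha => Subtype.ext (hN a ha)⟩, rfl⟩
  exact HomologicalComplex.Hom.isIso_of_components _

/-- the counit written via a resolution -/
lemma RgammaIε_eq_of_iso (K : Dual.D A) {L : Dual.D A} (e : K ≅ L) :
    (RgammaIε I).app K = (RgammaI I).map e.hom ≫ (RgammaIε I).app L ≫ e.inv := by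
  have h2 : (RgammaI I).map e.hom ≫ (RgammaIε I).app L = (RgammaIε I).app K ≫ e.hom :=
    (RgammaIε I).naturality e.hom
  rw [← Category.assoc, h2, Category.assoc, e.hom_inv_id]
  exact (Category.comp_id _).symm

/-- `RΓ_I` applied to the counit is an isomorphism (Noetherian case) -/
theorem isIso_map_RgammaIε [IsNoetherianRing A] (K : Dual.D A) :
    IsIso ((RgammaI I).map ((RgammaIε I).app K)) := by
  obtain ⟨J, f, hJ, hf, hinj⟩ :=
    Helper5.KInj.exists_kinjective_resolution' (A := ModuleCat.{u} A) (Q.objPreimage K)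
  haveI := hJ
  haveI : IsIso (Q.map f) := (DerivedCategory.isIso_Q_map_iff_quasiIso (φ := f)).2 hf
  let e : K ≅ Q.obj J := (Q.objObjPreimageIso K).symm ≪≫ asIso (Q.map f)
  suffices h : IsIso ((RgammaI I).map ((RgammaIε I).app (Q.obj J))) by
    rw [RgammaIε_eq_of_iso I K e, Functor.map_comp, Functor.map_comp]
    infer_instance
  rw [RgammaIε_app_Q, Functor.map_comp]
  suffices h : IsIso ((RgammaI I).map (Q.map (gammaIncl I J))) by infer_instance
  have hXinj : ∀ n, Injective ((gammaCx I J).X n) := injective_gammaCx_X I J hinj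
  obtain ⟨J₂, ρ, hJ₂, hρ, hinj₂⟩ :=
    Helper5.KInj.exists_kinjective_resolution' (A := ModuleCat.{u} A) (gammaCx I J)
  haveI := hJ₂
  haveI := hρ
  haveI : IsIso (Q.map ρ) := (DerivedCategory.isIso_Q_map_iff_quasiIso (φ := ρ)).2 hρ
  obtain ⟨ψ, hψ⟩ := Helper5.KInj.exists_Q_map_eq (inv (Q.map ρ) ≫ Q.map (gammaIncl I J))
  have h1 : Q.map (gammaIncl I J) = Q.map ρ ≫ Q.map ψ := by
    rw [hψ, IsIso.hom_inv_id_assoc]
  rw [h1, Functor.map_comp]
  suffices h : IsIso ((RgammaI I).map (Q.map ψ)) by infer_instance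
  have hnat := rgammaIso_naturality I ψ
  suffices h : IsIso (Q.map (gammaMap I ψ)) by
    have h5 : (RgammaI I).map (Q.map ψ) =
        (rgammaIso I J₂).hom ≫ Q.map (gammaMap I ψ) ≫ (rgammaIso I J).inv := by
      rw [← Category.assoc, ← hnat, Category.assoc, Iso.hom_inv_id]
      exact (Category.comp_id _).symm
    rw [h5]
    infer_instance
  have h2 : Q.map (gammaMap I (ρ ≫ ψ)) = Q.map (gammaMap I (gammaIncl I J)) :=
    Q_gammaMap_eq_of_Q_eq I (by rw [Functor.map_comp]; exact h1.symm)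
  haveI : QuasiIso (gammaMap I ρ) := quasiIso_gammaMap I ρ hXinj hinj₂
  haveI : IsIso (Q.map (gammaMap I ρ)) :=
    (DerivedCategory.isIso_Q_map_iff_quasiIso (φ := gammaMap I ρ)).2 inferInstance
  haveI := isIso_gammaMap_gammaIncl I J
  have h3 : Q.map (gammaMap I ρ) ≫ Q.map (gammaMap I ψ) =
      Q.map (gammaMap I (gammaIncl I J)) := by
    rw [← Functor.map_comp, ← h2]
    congr 1
  exact IsIso.of_isIso_fac_left h3

omit [HasRgammaI I] in
/-- the cohomology of `Γ_I X` is `I`-power torsion -/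
lemma isPowerTorsion_homology_gammaCx (X : CochainComplex (ModuleCat.{u} A) ℤ) (n : ℤ) :
    LocCoh.IsPowerTorsion I ((gammaCx I X).homology n) := by
  intro x
  have hsurj : Function.Surjective ((gammaCx I X).homologyπ n).hom :=
    (ModuleCat.epi_iff_surjective _).1 inferInstance
  have hinj : Function.Injective ((gammaCx I X).iCycles n).hom :=
    (ModuleCat.mono_iff_injective _).1 inferInstance
  obtain ⟨z, rfl⟩ := hsurj x
  obtain ⟨N, hN⟩ := (((gammaCx I X).iCycles n).hom z).2
  refine ⟨N, fun a ha => ?_⟩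
  have h1 : a • z = 0 := by
    apply hinj
    rw [map_smul, map_zero]
    apply Subtype.ext
    exact hN a ha
  rw [← map_smul, h1, map_zero]

/-- the cohomology of `RΓ_I K` is `I`-power torsion -/
theorem isPowerTorsion_RgammaI (K : Dual.D A) (i : ℤ) :
    LocCoh.IsPowerTorsion I (Dual.HD A ((RgammaI I).obj K) i) := by
  obtain ⟨J, f, hJ, hf⟩ := hasKInjRes_moduleCat (A := A) (Q.objPreimage K)
  haveI := hJ
  haveI : IsIso (Q.map f) := (DerivedCategory.isIso_Q_map_iff_quasiIso (φ := f)).2 hf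
  let e : K ≅ Q.obj J := (Q.objObjPreimageIso K).symm ≪≫ asIso (Q.map f)
  refine isPowerTorsion_of_equiv I ?_ (isPowerTorsion_homology_gammaCx I J i)
  exact ((Helper5.DComp.HDQEquiv (gammaCx I J) i).symm).trans
    ((((DerivedCategory.homologyFunctor (ModuleCat.{u} A) i).mapIso
      (rgammaIso I J)).toLinearEquiv).symm.trans
    (((RgammaI I ⋙ DerivedCategory.homologyFunctor (ModuleCat.{u} A) i).mapIso
      e).toLinearEquiv).symm)

/-- objects of `D(A)` with `I`-power torsion cohomology -/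
abbrev Ptors : ObjectProperty (Dual.D A) :=
  fun L : Dual.D A => ∀ i : ℤ, LocCoh.IsPowerTorsion I (Dual.HD A L i)

/-- `RΓ_I` as a functor to torsion objects -/
noncomputable abbrev Rlift : Dual.D A ⥤ (Ptors I).FullSubcategory :=
  ObjectProperty.lift (Ptors I) (RgammaI I) (isPowerTorsion_RgammaI I)

/-- composition with the counit -/
noncomputable def Φ (T : (Ptors I).FullSubcategory) (K : Dual.D A)
    (g : T ⟶ (Rlift I).obj K) : (ObjectProperty.ι (Ptors I)).obj T ⟶ K :=
  g.hom ≫ (RgammaIε I).app K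

theorem Φ_bijective [IsNoetherianRing A] (T : (Ptors I).FullSubcategory) (K : Dual.D A) :
    Function.Bijective (Φ I T K) := by
  haveI : IsIso ((RgammaIε I).app T.obj) := isIso_RgammaIε I T.obj T.property
  haveI := isIso_map_RgammaIε I K
  constructor
  · intro g₁ g₂ h
    apply ObjectProperty.hom_ext
    have h0 : g₁.hom ≫ (RgammaIε I).app K = g₂.hom ≫ (RgammaIε I).app K := h
    have h1 : (RgammaI I).map g₁.hom = (RgammaI I).map g₂.hom := by
      have h2 := congrArg (RgammaI I).map h0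
      rw [Functor.map_comp, Functor.map_comp] at h2
      exact (cancel_mono _).1 h2
    have n1 : (RgammaI I).map g₁.hom ≫ (RgammaIε I).app _ = (RgammaIε I).app T.obj ≫ g₁.hom :=
      (RgammaIε I).naturality g₁.hom
    have n2 : (RgammaI I).map g₂.hom ≫ (RgammaIε I).app _ = (RgammaIε I).app T.obj ≫ g₂.hom :=
      (RgammaIε I).naturality g₂.hom
    rw [h1] at n1
    exact (cancel_epi ((RgammaIε I).app T.obj)).1 (n1.symm.trans n2)
  · intro g
    refine ⟨ObjectProperty.homMk (inv ((RgammaIε I).app T.obj) ≫ (RgammaI I).map g), ?_⟩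
    have n1 : (RgammaI I).map g ≫ (RgammaIε I).app K = (RgammaIε I).app T.obj ≫ g :=
      (RgammaIε I).naturality g
    change (inv ((RgammaIε I).app T.obj) ≫ (RgammaI I).map g) ≫ (RgammaIε I).app K = g
    rw [Category.assoc, n1, IsIso.inv_hom_id_assoc]

/-- **S1817**: over a Noetherian ring, `RΓ_I` is right adjoint to the inclusion of the objects
with `I`-power torsion cohomology -/
noncomputable def adj [IsNoetherianRing A] : ObjectProperty.ι (Ptors I) ⊣ Rlift I :=
  Adjunction.mkOfHomEquiv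
    { homEquiv := fun T K => (Equiv.ofBijective (Φ I T K) (Φ_bijective I T K)).symm
      homEquiv_naturality_left_symm := by
        intro T' T K f g
        change Φ I T' K (f ≫ g) = f.hom ≫ Φ I T K g
        exact Category.assoc _ _ _
      homEquiv_naturality_right := by
        intro T K K' f g
        apply (Φ_bijective I T K').1
        change Φ I T K' ((Equiv.ofBijective (Φ I T K') (Φ_bijective I T K')).symm (f ≫ g)) =
          Φ I T K' ((Equiv.ofBijective (Φ I T K) (Φ_bijective I T K)).symm f ≫ (Rlift I).map g)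
        have e1 : Φ I T K' ((Equiv.ofBijective (Φ I T K') (Φ_bijective I T K')).symm (f ≫ g)) =
            f ≫ g :=
          (Equiv.ofBijective (Φ I T K') (Φ_bijective I T K')).apply_symm_apply (f ≫ g)
        have e2 : Φ I T K ((Equiv.ofBijective (Φ I T K) (Φ_bijective I T K)).symm f) = f :=
          (Equiv.ofBijective (Φ I T K) (Φ_bijective I T K)).apply_symm_apply f
        rw [e1]
        have n1 : (RgammaI I).map g ≫ (RgammaIε I).app K' = (RgammaIε I).app K ≫ g :=
          (RgammaIε I).naturality g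
        change f ≫ g = (((Equiv.ofBijective (Φ I T K) (Φ_bijective I T K)).symm f).hom ≫
          (RgammaI I).map g) ≫ (RgammaIε I).app K'
        rw [Category.assoc, n1, ← Category.assoc]
        congr 1
        exact e2.symm }

end Helper5.RGam
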