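import Mathlib
import Groth.Prelude.Def_DRing3
import Groth.Prelude.Def_Wider
import Groth.Agent.Lib.Helper5.RGam.Adj

/-!
# `RΓ_J ∘ RΓ_I = RΓ_{I + J}` over a Noetherian ring
-/

set_option autoImplicit false
universe u
open CategoryTheory CategoryTheory.Limits

attribute [local instance] HasDerivedCategory.standard

namespace Helper5.RGam

open DRing DerivedCategory CochainComplex

variable {A : Type u} [CommRing A] (I J : Ideal A)

/-- over a Noetherian ring `RΓ_I` of a complex of injectives is computed termwise -/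
theorem nonempty_rgammaIso' [IsNoetherianRing A] [HasRgammaI I]
    (X : CochainComplex (ModuleCat.{u} A) ℤ) (hX : ∀ n, Injective (X.X n)) :
    Nonempty ((RgammaI I).obj (Q.obj X) ≅ Q.obj (gammaCx I X)) := by
  obtain ⟨J₂, ρ, hJ₂, hρ, hinj₂⟩ :=
    Helper5.KInj.exists_kinjective_resolution' (A := ModuleCat.{u} A) X
  haveI := hJ₂
  haveI := hρ
  haveI : IsIso (Q.map ρ) := (DerivedCategory.isIso_Q_map_iff_quasiIso (φ := ρ)).2 hρ
  haveI : QuasiIso (gammaMap I ρ) := quasiIso_gammaMap I ρ hX hinj₂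
  haveI : IsIso (Q.map (gammaMap I ρ)) :=
    (DerivedCategory.isIso_Q_map_iff_quasiIso (φ := gammaMap I ρ)).2 inferInstance
  exact ⟨(RgammaI I).mapIso (asIso (Q.map ρ)) ≪≫ rgammaIso I J₂ ≪≫
    (asIso (Q.map (gammaMap I ρ))).symm⟩

section Equiv

variable (M : Type u) [AddCommGroup M] [Module A M]

/-- `Γ_J (Γ_I M) ≃ Γ_{I ⊔ J} M` -/
noncomputable def gammaGammaEquiv :
    torsionSub J (torsionSub I M) ≃ₗ[A] torsionSub (I ⊔ J) M where
  toFun x := ⟨x.1.1, mem_torsionSub_sup x.1.1 x.1.2 (by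
    obtain ⟨N, hN⟩ := x.2
    exact ⟨N, fun a ha => congrArg Subtype.val (hN a ha)⟩)⟩
  map_add' _ _ := rfl
  map_smul' _ _ := rfl
  invFun x := ⟨⟨x.1, torsionSub_anti le_sup_left x.2⟩, by
    obtain ⟨N, hN⟩ := torsionSub_anti (le_sup_right : J ≤ I ⊔ J) x.2
    exact ⟨N, fun a ha => Subtype.ext (hN a ha)⟩⟩
  left_inv _ := rfl
  right_inv _ := rfl

end Equiv

/-- `Γ_J (Γ_I X) ≅ Γ_{I ⊔ J} X` for complexes -/
noncomputable def gammaGammaIso (X : CochainComplex (ModuleCat.{u} A) ℤ) :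
    gammaCx J (gammaCx I X) ≅ gammaCx (I ⊔ J) X :=
  HomologicalComplex.Hom.isoOfComponents
    (fun n => (gammaGammaEquiv I J (X.X n)).toModuleIso) (by
      intro i j _
      ext x
      rfl)

/-- **S1816** -/
theorem rgamma_comp [IsNoetherianRing A] [HasRgammaI I] [HasRgammaI J] [HasRgammaI (I ⊔ J)]
    (K : Dual.D A) :
    Nonempty ((RgammaI J).obj ((RgammaI I).obj K) ≅ (RgammaI (I ⊔ J)).obj K) := by
  obtain ⟨J₀, f, hJ₀, hf, hinj⟩ :=
    Helper5.KInj.exists_kinjective_resolution' (A := ModuleCat.{u} A) (Q.objPreimage K)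
  haveI := hJ₀
  haveI : IsIso (Q.map f) := (DerivedCategory.isIso_Q_map_iff_quasiIso (φ := f)).2 hf
  let e : K ≅ Q.obj J₀ := (Q.objObjPreimageIso K).symm ≪≫ asIso (Q.map f)
  obtain ⟨e2⟩ := nonempty_rgammaIso' J (gammaCx I J₀) (injective_gammaCx_X I J₀ hinj)
  exact ⟨(RgammaI J).mapIso ((RgammaI I).mapIso e ≪≫ rgammaIso I J₀) ≪≫ e2 ≪≫
    Q.mapIso (gammaGammaIso I J J₀) ≪≫ (rgammaIso (I ⊔ J) J₀).symm ≪≫
    ((RgammaI (I ⊔ J)).mapIso e).symm⟩

end Helper5.RGam
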