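import Mathlib
import Groth.Prelude.Def_DRing3
import Groth.Prelude.Def_Wider
import Groth.Agent.Lib.Helper5.RGam.Comp
import Groth.Agent.Lib.Helper5.DComp.Exist

/-!
# Greenlees–May, part (b): the completion of `RΓ_I K ⟶ K` is an isomorphism
-/

set_option autoImplicit false
universe u
open CategoryTheory CategoryTheory.Limits Pretriangulated

attribute [local instance] HasDerivedCategory.standard

namespace Helper5.RGam

open DRing DerivedCategory CochainComplex Helper5.DMod Helper5.DComp

variable {A : Type u} [CommRing A] (I : Ideal A)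

/-- left orthogonal of the derived complete objects -/
def Nc (W : Dual.D A) : Prop :=
  ∀ L : Dual.D A, DRing.IsDerivedComplete I L → ∀ g : W ⟶ L, g = 0

variable {I}

lemma Nc.shift {W : Dual.D A} (hW : Nc I W) (n : ℤ) : Nc I (W⟦n⟧) := by
  intro L hL g
  let e := (shiftEquiv (Dual.D A) n).toAdjunction
  apply (e.homEquiv W L).injective
  rw [hW (L⟦-n⟧) (isDerivedComplete_shift I hL (-n)) (e.homEquiv W L g)]
  exact (hW (L⟦-n⟧) (isDerivedComplete_shift I hL (-n)) _).symm

lemma Nc.of_iso {W W' : Dual.D A} (e : W ≅ W') (hW : Nc I W) : Nc I W' := by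
  intro L hL g
  have h := hW L hL (e.hom ≫ g)
  have : g = e.inv ≫ e.hom ≫ g := by rw [Iso.inv_hom_id_assoc]
  rw [this, h, comp_zero]

lemma Nc.of_triangle (T : Triangle (Dual.D A)) (hT : T ∈ distTriang (Dual.D A))
    (h₁ : Nc I T.obj₁) (h₃ : Nc I T.obj₃) : Nc I T.obj₂ := by
  intro L hL g
  obtain ⟨g', hg'⟩ := Triangle.yoneda_exact₂ _ hT g (h₁ L hL _)
  rw [hg', h₃ L hL g', comp_zero]

lemma Nc.of_isIso_smul (f : A) (hf : f ∈ I) (W : Dual.D A) [IsIso (f • 𝟙 W)] : Nc I W :=
  fun L hL g => hom_eq_zero_direct f I hf W L hL g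

/-- precomposition with the first map of a triangle whose third vertex is left orthogonal to
complete objects is bijective on maps to complete objects -/
lemma bijective_precomp_of_Nc (T : Triangle (Dual.D A)) (hT : T ∈ distTriang (Dual.D A))
    (h₃ : Nc I T.obj₃) (L : Dual.D A) (hL : DRing.IsDerivedComplete I L) :
    Function.Bijective (fun g : T.obj₂ ⟶ L => T.mor₁ ≫ g) := by
  constructor
  · intro g₁ g₂ h
    have h0 : T.mor₁ ≫ (g₁ - g₂) = 0 := by
      rw [Preadditive.comp_sub]
      exact sub_eq_zero.2 h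
    obtain ⟨g', hg'⟩ := Triangle.yoneda_exact₂ _ hT (g₁ - g₂) h0
    rw [h₃ L hL g', comp_zero] at hg'
    exact sub_eq_zero.mp hg'
  · intro m
    have hT' := inv_rot_of_distTriang _ hT
    obtain ⟨g, hg⟩ := Triangle.yoneda_exact₂ _ hT' m ((h₃.shift (-1)) L hL _)
    exact ⟨g, hg.symm⟩

section Principal

variable [IsNoetherianRing A]

lemma isIso_smul_quotCx (f : A) (X : CochainComplex (ModuleCat.{u} A) ℤ)
    (hinj : ∀ n, Module.Injective A (X.X n)) :
    IsIso (f • 𝟙 (quotCx (Ideal.span {f}) X)) := by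
  haveI : ∀ n, IsIso ((f • 𝟙 (quotCx (Ideal.span {f}) X)).f n) := by
    intro n
    rw [ConcreteCategory.isIso_iff_bijective]
    constructor
    · rw [injective_iff_map_eq_zero]
      intro x hx
      obtain ⟨x, rfl⟩ := Submodule.Quotient.mk_surjective _ x
      have h1 : f • x ∈ torsionSub (Ideal.span {f}) (X.X n) :=
        (Submodule.Quotient.mk_eq_zero _).1 hx
      rw [mem_torsionSub_span_singleton] at h1
      obtain ⟨N, hN⟩ := h1
      apply (Submodule.Quotient.mk_eq_zero _).2
      rw [mem_torsionSub_span_singleton]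
      refine ⟨N + 1, ?_⟩
      rw [pow_succ, mul_smul]
      exact hN
    · intro y
      obtain ⟨y, rfl⟩ := Submodule.Quotient.mk_surjective _ y
      haveI := hinj n
      obtain ⟨y', N, hN⟩ := exists_div_mod_torsion (X.X n) f 1 y
      refine ⟨Submodule.Quotient.mk y', ?_⟩
      change Submodule.Quotient.mk (f • y') = Submodule.Quotient.mk y
      rw [Submodule.Quotient.eq, mem_torsionSub_span_singleton]
      refine ⟨N, ?_⟩
      rw [pow_one] at hN
      exact hN
  exact HomologicalComplex.Hom.isIso_of_components _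

lemma Nc_quotCx_principal (f : A) (hf : f ∈ I) (X : CochainComplex (ModuleCat.{u} A) ℤ)
    (hinj : ∀ n, Module.Injective A (X.X n)) : Nc I (Q.obj (quotCx (Ideal.span {f}) X)) := by
  haveI := isIso_smul_quotCx f X hinj
  haveI : IsIso (f • 𝟙 (Q.obj (quotCx (Ideal.span {f}) X))) := by
    have h : Q.map (f • 𝟙 (quotCx (Ideal.span {f}) X)) =
        f • 𝟙 (Q.obj (quotCx (Ideal.span {f}) X)) := by
      rw [Functor.map_smul, CategoryTheory.Functor.map_id]
    rw [← h]
    infer_instance
  exact Nc.of_isIso_smul f hf _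

end Principal

section Sup

variable (I₁ I₂ : Ideal A) (X : CochainComplex (ModuleCat.{u} A) ℤ)

lemma mem_sup_of_mem_mem (n : ℤ) (x : torsionSub I₂ (X.X n))
    (hx : x ∈ torsionSub I₁ (torsionSub I₂ (X.X n))) :
    (x : X.X n) ∈ torsionSub (I₁ ⊔ I₂) (X.X n) := by
  apply mem_torsionSub_sup _ _ x.2
  obtain ⟨N, hN⟩ := hx
  exact ⟨N, fun a ha => congrArg Subtype.val (hN a ha)⟩

/-- `Γ_{I₂} X / Γ_{I₁} Γ_{I₂} X ⟶ X / Γ_{I₁ ⊔ I₂} X` -/
noncomputable def supA : quotCx I₁ (gammaCx I₂ X) ⟶ quotCx (I₁ ⊔ I₂) X where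
  f n := ModuleCat.ofHom (Submodule.mapQ _ _ (torsionSub I₂ (X.X n)).subtype
    (fun x hx => mem_sup_of_mem_mem I₁ I₂ X n x hx))
  comm' i j _ := by
    apply ModuleCat.hom_ext
    apply LinearMap.ext
    intro x
    obtain ⟨x, rfl⟩ := Submodule.Quotient.mk_surjective _ x
    rfl

/-- `X / Γ_{I₁ ⊔ I₂} X ⟶ X / Γ_{I₂} X` -/
noncomputable def supB : quotCx (I₁ ⊔ I₂) X ⟶ quotCx I₂ X where
  f n := ModuleCat.ofHom (Submodule.mapQ _ _ LinearMap.id
    (fun _ hx => torsionSub_anti (le_sup_right : I₂ ≤ I₁ ⊔ I₂) hx))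
  comm' i j _ := by
    apply ModuleCat.hom_ext
    apply LinearMap.ext
    intro x
    obtain ⟨x, rfl⟩ := Submodule.Quotient.mk_surjective _ x
    rfl

/-- the short exact sequence of quotient complexes -/
noncomputable def supSC : ShortComplex (CochainComplex (ModuleCat.{u} A) ℤ) :=
  ShortComplex.mk (supA I₁ I₂ X) (supB I₁ I₂ X) (by
    ext n x
    obtain ⟨x, rfl⟩ := Submodule.Quotient.mk_surjective _ x
    exact (Submodule.Quotient.mk_eq_zero (torsionSub I₂ (X.X n))).2 x.2)

lemma supSC_shortExact : (supSC I₁ I₂ X).ShortExact := by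
  apply HomologicalComplex.shortExact_of_degreewise_shortExact
  intro n
  apply ModuleCat.shortComplex_shortExact
  · intro x
    obtain ⟨x, rfl⟩ := Submodule.Quotient.mk_surjective
      (torsionSub (I₁ ⊔ I₂) (X.X n)) (x : X.X n ⧸ torsionSub (I₁ ⊔ I₂) (X.X n))
    constructor
    · intro hx
      have hx' : x ∈ torsionSub I₂ (X.X n) :=
        (Submodule.Quotient.mk_eq_zero (torsionSub I₂ (X.X n))).1 hx
      exact ⟨Submodule.Quotient.mk (⟨x, hx'⟩ : torsionSub I₂ (X.X n)), rfl⟩
    · rintro ⟨y, hy⟩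
      rw [← hy]
      exact congrArg (fun t => t.hom y)
        (HomologicalComplex.congr_hom (supSC I₁ I₂ X).zero n)
  · have : Function.Injective (Submodule.mapQ (torsionSub I₁ (torsionSub I₂ (X.X n)))
        (torsionSub (I₁ ⊔ I₂) (X.X n)) (torsionSub I₂ (X.X n)).subtype
        (fun x hx => mem_sup_of_mem_mem I₁ I₂ X n x hx)) := by
      rw [injective_iff_map_eq_zero]
      intro x hx
      obtain ⟨x, rfl⟩ := Submodule.Quotient.mk_surjective _ x
      have h1 : (x : X.X n) ∈ torsionSub (I₁ ⊔ I₂) (X.X n) :=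
        (Submodule.Quotient.mk_eq_zero _).1 hx
      apply (Submodule.Quotient.mk_eq_zero _).2
      obtain ⟨N, hN⟩ := torsionSub_anti (le_sup_left : I₁ ≤ I₁ ⊔ I₂) h1
      exact ⟨N, fun a ha => Subtype.ext (hN a ha)⟩
    exact this
  · have : Function.Surjective (Submodule.mapQ (torsionSub (I₁ ⊔ I₂) (X.X n))
        (torsionSub I₂ (X.X n)) LinearMap.id
        (fun _ hx => torsionSub_anti (le_sup_right : I₂ ≤ I₁ ⊔ I₂) hx)) := by
      intro y
      obtain ⟨y, rfl⟩ := Submodule.Quotient.mk_surjective _ y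
      exact ⟨Submodule.Quotient.mk y, rfl⟩
    exact this

end Sup

section Induction

variable [IsNoetherianRing A]

variable (I) in
/-- `X / Γ_{I'} X` is left orthogonal to the derived `I`-complete objects for `I' ≤ I` and `X` a
complex of injectives -/
theorem Nc_quotCx (I' : Ideal A) : I' ≤ I → ∀ X : CochainComplex (ModuleCat.{u} A) ℤ,
    (∀ n, Module.Injective A (X.X n)) → Nc I (Q.obj (quotCx I' X)) := by
  refine Submodule.fg_induction (R := A) (M := A)
    (motive := fun I' _ => I' ≤ I → ∀ X : CochainComplex (ModuleCat.{u} A) ℤ,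
      (∀ n, Module.Injective A (X.X n)) → Nc I (Q.obj (quotCx I' X))) ?_ ?_ I'
    (IsNoetherian.noetherian I')
  · intro f hf X hinj
    exact Nc_quotCx_principal f (hf (Ideal.mem_span_singleton_self f)) X hinj
  · intro I₁ I₂ _ _ h₁ h₂ hle X hinj
    have hinj' : ∀ n, Module.Injective A ((gammaCx I₂ X).X n) :=
      fun n => haveI := hinj n; injective_torsionSub I₂ (X.X n)
    have hT := triangleOfSES_distinguished (supSC_shortExact I₁ I₂ X)
    exact Nc.of_triangle _ hT (h₁ (le_sup_left.trans hle) (gammaCx I₂ X) hinj')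
      (h₂ (le_sup_right.trans hle) X hinj)

variable (I) [HasRgammaI I]

/-- precomposition with the counit is bijective on maps to derived complete objects -/
theorem ε_precomp_bijective (K L : Dual.D A) (hL : DRing.IsDerivedComplete I L) :
    Function.Bijective (fun g : K ⟶ L => (RgammaIε I).app K ≫ g) := by
  obtain ⟨J, f, hJ, hf, hinj⟩ :=
    Helper5.KInj.exists_kinjective_resolution' (A := ModuleCat.{u} A) (Q.objPreimage K)
  haveI := hJ
  haveI : IsIso (Q.map f) := (DerivedCategory.isIso_Q_map_iff_quasiIso (φ := f)).2 hf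
  let e : K ≅ Q.obj J := (Q.objObjPreimageIso K).symm ≪≫ asIso (Q.map f)
  have hinj' : ∀ n, Module.Injective A (J.X n) := by
    intro n
    haveI : Injective (ModuleCat.of A (J.X n)) := hinj n
    exact Module.injective_module_of_injective_object A (J.X n)
  have hT := triangleOfSES_distinguished (gammaSC_shortExact I J)
  have h1 := bijective_precomp_of_Nc _ hT (Nc_quotCx I I le_rfl J hinj') L hL
  have h2 : (fun g : K ⟶ L => (RgammaIε I).app K ≫ g) =
      (fun g : Q.obj (gammaCx I J) ⟶ L => ((RgammaI I).map e.hom ≫ (rgammaIso I J).hom) ≫ g) ∘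
      (fun g : Q.obj J ⟶ L => Q.map (gammaIncl I J) ≫ g) ∘ (fun g : K ⟶ L => e.inv ≫ g) := by
    funext g
    simp only [Function.comp_apply]
    rw [RgammaIε_eq_of_iso I K e, RgammaIε_app_Q]
    simp only [Category.assoc]
  rw [h2]
  refine Function.Bijective.comp ?_ (Function.Bijective.comp h1 ?_)
  · haveI : IsIso ((RgammaI I).map e.hom ≫ (rgammaIso I J).hom) := inferInstance
    constructor
    · intro g₁ g₂ h
      exact (cancel_epi _).1 h
    · intro g
      exact ⟨inv ((RgammaI I).map e.hom ≫ (rgammaIso I J).hom) ≫ g, by simp⟩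
  · constructor
    · intro g₁ g₂ h
      exact (cancel_epi e.inv).1 h
    · intro g
      exact ⟨e.hom ≫ g, by simp⟩

/-- **Greenlees–May (b)**: the derived completion of `RΓ_I K ⟶ K` is an isomorphism -/
theorem isIso_completion_map_ε [HasDerivedCompletion I] (K : Dual.D A) :
    IsIso ((derivedCompletion I).map ((RgammaIε I).app K)) := by
  apply isIso_of_coyoneda_map_bijective
  intro L
  have h1 := ε_precomp_bijective I K L.obj L.property
  have hb := fun X => ((derivedCompletionAdj I).homEquiv X L).bijective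
  have h2 : (fun g : K ⟶ L.obj => (RgammaIε I).app K ≫ g) ∘
      ((derivedCompletionAdj I).homEquiv K L) =
      ((derivedCompletionAdj I).homEquiv ((RgammaI I).obj K) L) ∘
      (fun x : (derivedCompletion I).obj K ⟶ L =>
        (derivedCompletion I).map ((RgammaIε I).app K) ≫ x) := by
    funext x
    simp only [Function.comp_apply]
    rw [Adjunction.homEquiv_naturality_left]
    rfl
  have h3 : Function.Bijective (((derivedCompletionAdj I).homEquiv ((RgammaI I).obj K) L) ∘
      (fun x : (derivedCompletion I).obj K ⟶ L =>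
        (derivedCompletion I).map ((RgammaIε I).app K) ≫ x)) := by
    rw [← h2]
    exact h1.comp (hb K)
  exact (Function.Bijective.of_comp_iff' (hb _) _).1 h3

end Induction

end Helper5.RGam
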