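import Mathlib
import Groth.Prelude.Def_DRing3
import Groth.Prelude.Def_Wider
import Groth.Agent.Lib.Helper5.RGam.GMb
import Groth.Agent.Lib.Helper5.RHomK.RHomComplete

/-!
# Greenlees–May, part (a): `RΓ_I` of the completion unit is an isomorphism
-/

set_option autoImplicit false
universe u
open CategoryTheory CategoryTheory.Limits Pretriangulated

attribute [local instance] HasDerivedCategory.standard

namespace Helper5.RGam

open DRing DerivedCategory CochainComplex Helper5.DMod Helper5.DComp

variable {A : Type u} [CommRing A] (I : Ideal A)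

lemma isIso_smul_shift (f : A) (W : Dual.D A) [IsIso (f • 𝟙 W)] (n : ℤ) :
    IsIso (f • 𝟙 (W⟦n⟧)) := by
  have h : (CategoryTheory.shiftFunctor (Dual.D A) n).map (f • 𝟙 W) = f • 𝟙 (W⟦n⟧) := by
    rw [Functor.map_smul, CategoryTheory.Functor.map_id]
  rw [← h]
  infer_instance

variable [HasRgammaI I]

/-- `RΓ_I W = 0` when some `f ∈ I` acts invertibly on `W` -/
theorem isZero_rgamma_of_isIso_smul (f : A) (hf : f ∈ I) (W : Dual.D A) [IsIso (f • 𝟙 W)] :
    IsZero ((RgammaI I).obj W) := by
  obtain ⟨J, j, hJ, hj⟩ := hasKInjRes_moduleCat (A := A) (Q.objPreimage W)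
  haveI := hJ
  haveI : IsIso (Q.map j) := (DerivedCategory.isIso_Q_map_iff_quasiIso (φ := j)).2 hj
  let e : W ≅ Q.obj J := (Q.objObjPreimageIso W).symm ≪≫ asIso (Q.map j)
  refine IsZero.of_iso ?_ ((RgammaI I).mapIso e)
  refine IsZero.of_iso ?_ (rgammaIso I J)
  rw [Groth.Agent.Helper5.FlatAcyc.isZero_Q_iff_acyclic]
  apply acyclic_gammaCx I J f hf
  rw [← DerivedCategory.isIso_Q_map_iff_quasiIso]
  have h : Q.map (f • 𝟙 J) = e.inv ≫ (f • 𝟙 W) ≫ e.hom := by
    rw [Functor.map_smul, CategoryTheory.Functor.map_id, Linear.smul_comp, Linear.comp_smul,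
      Category.id_comp, e.inv_hom_id]
  rw [h]
  infer_instance

variable [IsNoetherianRing A]

/-- maps from torsion objects to objects with vanishing `RΓ_I` are zero -/
lemma hom_torsion_eq_zero (T : (Ptors I).FullSubcategory) (W : Dual.D A)
    (hW : IsZero ((RgammaI I).obj W)) (g : T.obj ⟶ W) : g = 0 := by
  obtain ⟨g', rfl⟩ := (Φ_bijective I T W).2 g
  change g'.hom ≫ _ = 0
  rw [hW.eq_of_tgt g'.hom 0, zero_comp]

omit [HasRgammaI I] [IsNoetherianRing A] in
lemma bijective_postcomp (T' : Triangle (Dual.D A)) (hT' : T' ∈ distTriang (Dual.D A))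
    (X : Dual.D A) (h₃ : ∀ g : X ⟶ T'.obj₃, g = 0) (h₃' : ∀ g : X ⟶ T'.obj₃⟦(-1 : ℤ)⟧, g = 0) :
    Function.Bijective (fun g : X ⟶ T'.obj₁ => g ≫ T'.mor₁) := by
  constructor
  · intro g₁ g₂ h
    have h0 : (g₁ - g₂) ≫ T'.mor₁ = 0 := by
      rw [Preadditive.sub_comp]
      exact sub_eq_zero.2 h
    obtain ⟨g', hg'⟩ := Triangle.coyoneda_exact₂ _ (inv_rot_of_distTriang _ hT') (g₁ - g₂) h0
    have hz : g₁ - g₂ = 0 := by
      refine hg'.trans ?_
      rw [h₃' g']
      exact zero_comp
    exact sub_eq_zero.mp hz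
  · intro m
    obtain ⟨g, hg⟩ := Triangle.coyoneda_exact₂ _ hT' m (h₃ _)
    exact ⟨g, hg.symm⟩

theorem η_postcomp_bijective (f : A) (hf : f ∈ I) (E : CochainComplex (ModuleCat.{u} A) ℤ)
    (T : (Ptors I).FullSubcategory) :
    Function.Bijective (fun g : T.obj ⟶ Q.obj E => g ≫ Q.map (η f E)) := by
  have hT := triangleOfSES_distinguished (sc_shortExact f E)
  haveI : IsIso (f • 𝟙 (triangleOfSES (sc_shortExact f E)).obj₃) := isIso_smul_cone f E
  haveI := isIso_smul_shift f (triangleOfSES (sc_shortExact f E)).obj₃ (-1)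
  exact bijective_postcomp _ hT T.obj
    (fun g => hom_torsion_eq_zero I T _ (isZero_rgamma_of_isIso_smul I f hf _) g)
    (fun g => hom_torsion_eq_zero I T _ (isZero_rgamma_of_isIso_smul I f hf _) g)

theorem ηl_postcomp_bijective (l : List A) (hl : ∀ g ∈ l, g ∈ I)
    (E : CochainComplex (ModuleCat.{u} A) ℤ) (T : (Ptors I).FullSubcategory) :
    Function.Bijective (fun g : T.obj ⟶ Q.obj E => g ≫ Q.map (ηl l E)) := by
  induction l with
  | nil =>
    have : (fun g : T.obj ⟶ Q.obj E => g ≫ Q.map (ηl [] E)) = id := by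
      funext g
      change g ≫ Q.map (𝟙 E) = g
      rw [CategoryTheory.Functor.map_id]
      exact Category.comp_id g
    rw [this]
    exact Function.bijective_id
  | cons f l ih =>
    have h1 := ih (fun g hg => hl g (List.mem_cons_of_mem _ hg))
    have h2 := η_postcomp_bijective I f (hl f List.mem_cons_self) (Tl l E) T
    have : (fun g : T.obj ⟶ Q.obj E => g ≫ Q.map (ηl (f :: l) E)) =
        (fun g : T.obj ⟶ Q.obj (Tl l E) => g ≫ Q.map (η f (Tl l E))) ∘
          (fun g : T.obj ⟶ Q.obj E => g ≫ Q.map (ηl l E)) := by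
      funext g
      simp [ηl, Tl]
    rw [this]
    exact h2.comp h1

variable [HasDerivedCompletion I]

/-- postcomposition with the completion unit is bijective on maps from torsion objects -/
theorem unit_postcomp_bijective (K : Dual.D A) (T : (Ptors I).FullSubcategory) :
    Function.Bijective (fun g : T.obj ⟶ K => g ≫ toDerivedCompletion I K) := by
  obtain ⟨s, hs⟩ := (IsNoetherian.noetherian I : I.FG)
  let E := Q.objPreimage K
  let e : Q.obj E ≅ K := Q.objObjPreimageIso K
  let l := s.toList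
  have hl : ∀ g ∈ l, g ∈ I := by
    intro g hg
    rw [← hs]
    exact Ideal.subset_span (Finset.mem_toList.mp hg)
  have hY : DRing.IsDerivedComplete I (Q.obj (Tl l E)) := by
    rw [idc_Q_iff]
    intro g hg n
    rw [← hs] at hg
    exact DC_of_mem_span (s := (s : Set A))
      (fun x hx => DC_homology_Tl E l x (Finset.mem_toList.mpr hx) n) hg
  have hu : ∀ Y' : Dual.D A, DRing.IsDerivedComplete I Y' →
      Function.Bijective (fun g : Q.obj (Tl l E) ⟶ Y' => (e.inv ≫ Q.map (ηl l E)) ≫ g) := by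
    intro Y' hY'
    have h1 := ηl_comp_bijective E I l hl Y' hY'
    have h2 : Function.Bijective (fun g : Q.obj E ⟶ Y' => e.inv ≫ g) := by
      constructor
      · intro g₁ g₂ h
        exact (cancel_epi e.inv).mp h
      · intro g
        exact ⟨e.hom ≫ g, by simp⟩
    have : (fun g : Q.obj (Tl l E) ⟶ Y' => (e.inv ≫ Q.map (ηl l E)) ≫ g) =
        (fun g : Q.obj E ⟶ Y' => e.inv ≫ g) ∘
          (fun g : Q.obj (Tl l E) ⟶ Y' => Q.map (ηl l E) ≫ g) := by
      funext g
      simp
    rw [this]
    exact h2.comp h1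
  obtain ⟨a, ha⟩ := Helper5.RHomK.exists_iso_of_universal I K _ (e.inv ≫ Q.map (ηl l E)) hY hu
  have hη : toDerivedCompletion I K = e.inv ≫ Q.map (ηl l E) ≫ a.inv := by
    rw [← Category.assoc, ← ha, Category.assoc, a.hom_inv_id]
    exact (Category.comp_id _).symm
  have h1 := ηl_postcomp_bijective I l hl E T
  have : (fun g : T.obj ⟶ K => g ≫ toDerivedCompletion I K) =
      (fun g : T.obj ⟶ Q.obj (Tl l E) => g ≫ a.inv) ∘
      (fun g : T.obj ⟶ Q.obj E => g ≫ Q.map (ηl l E)) ∘ (fun g : T.obj ⟶ K => g ≫ e.inv) := by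
    funext g
    simp only [Function.comp_apply]
    rw [hη]
    simp only [Category.assoc]
  rw [this]
  refine Function.Bijective.comp ?_ (Function.Bijective.comp h1 ?_)
  · constructor
    · intro g₁ g₂ h
      exact (cancel_mono a.inv).1 h
    · intro g
      exact ⟨g ≫ a.hom, by simp⟩
  · constructor
    · intro g₁ g₂ h
      exact (cancel_mono e.inv).1 h
    · intro g
      exact ⟨g ≫ e.hom, by simp⟩

/-- **Greenlees–May (a)**: `RΓ_I` of the completion unit is an isomorphism -/
theorem isIso_Rgamma_map_unit (K : Dual.D A) :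
    IsIso ((RgammaI I).map (toDerivedCompletion I K)) := by
  suffices h : IsIso ((Rlift I).map (toDerivedCompletion I K)) by
    exact (ObjectProperty.ι (Ptors I)).map_isIso ((Rlift I).map (toDerivedCompletion I K))
  apply isIso_of_yoneda_map_bijective
  intro T
  have h1 := unit_postcomp_bijective I K T
  have hΦ := fun X => Φ_bijective I T X
  have h2 : (fun g : T.obj ⟶ K => g ≫ toDerivedCompletion I K) ∘ (Φ I T K) =
      (Φ I T _) ∘ (fun x : T ⟶ (Rlift I).obj K => x ≫ (Rlift I).map (toDerivedCompletion I K)) := by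
    funext x
    simp only [Function.comp_apply]
    change (x.hom ≫ (RgammaIε I).app K) ≫ toDerivedCompletion I K =
      (x.hom ≫ (RgammaI I).map (toDerivedCompletion I K)) ≫ (RgammaIε I).app _
    have n1 : (RgammaI I).map (toDerivedCompletion I K) ≫ (RgammaIε I).app _ =
        (RgammaIε I).app K ≫ toDerivedCompletion I K :=
      (RgammaIε I).naturality (toDerivedCompletion I K)
    rw [Category.assoc, Category.assoc, n1]
  have h3 : Function.Bijective ((Φ I T _) ∘
      (fun x : T ⟶ (Rlift I).obj K => x ≫ (Rlift I).map (toDerivedCompletion I K))) := by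
    rw [← h2]
    exact h1.comp (hΦ K)
  exact (Function.Bijective.of_comp_iff' (hΦ _) _).1 h3

/-- **S1814** Greenlees–May duality over a Noetherian ring -/
theorem greenlees_may (K : Dual.D A) :
    Nonempty ((RgammaI I).obj ((derivedCompletion I).obj K).obj ≅ (RgammaI I).obj K) ∧
    Nonempty ((derivedCompletion I).obj ((RgammaI I).obj K) ≅ (derivedCompletion I).obj K) := by
  haveI := isIso_Rgamma_map_unit I K
  haveI := isIso_completion_map_ε I K
  exact ⟨⟨(asIso ((RgammaI I).map (toDerivedCompletion I K))).symm⟩,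
    ⟨asIso ((derivedCompletion I).map ((RgammaIε I).app K))⟩⟩

end Helper5.RGam
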