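import Mathlib
import Groth.Prelude.Def_DRing3
import Groth.Prelude.Def_Wider
import Groth.Agent.Lib.Helper5.RGam.Adj

/-!
# "Good" modules: a class of modules, containing the injective modules over a Noetherian ring and
stable under restriction of scalars, for which `Γ_I` computes `RΓ_I`
-/

set_option autoImplicit false
universe u
open CategoryTheory CategoryTheory.Limits

attribute [local instance] HasDerivedCategory.standard

namespace Helper5.RGam

open DRing DerivedCategory CochainComplex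

variable {A : Type u} [CommRing A]

/-- divisibility by powers of `f` modulo `f`-power torsion inside every `Γ_{I'}` -/
def Good (E : Type u) [AddCommGroup E] [Module A E] : Prop :=
  ∀ (I' : Ideal A) (f : A) (k : ℕ) (y : E), y ∈ torsionSub I' E →
    ∃ y' ∈ torsionSub I' E, ∃ N : ℕ, f ^ N • (f ^ k • y' - y) = 0

section GoodLemmas

variable {E E' : Type u} [AddCommGroup E] [Module A E] [AddCommGroup E'] [Module A E']

lemma good_of_injective [IsNoetherianRing A] [Module.Injective A E] : Good (A := A) E := by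
  intro I' f k y hy
  haveI := injective_torsionSub I' E
  obtain ⟨y'', N, h⟩ := exists_div_mod_torsion (torsionSub I' E) f k ⟨y, hy⟩
  exact ⟨y''.1, y''.2, N, congrArg Subtype.val h⟩

lemma torsionSub_bot_eq_top : torsionSub (⊥ : Ideal A) E = ⊤ := by
  rw [eq_top_iff]
  intro y _
  refine ⟨1, fun a ha => ?_⟩
  rw [pow_one, Ideal.mem_bot] at ha
  rw [ha, zero_smul]

lemma Good.div (h : Good (A := A) E) (f : A) (k : ℕ) (y : E) :
    ∃ (y' : E) (N : ℕ), f ^ N • (f ^ k • y' - y) = 0 := by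
  obtain ⟨y', -, N, hN⟩ := h ⊥ f k y (by rw [torsionSub_bot_eq_top]; trivial)
  exact ⟨y', N, hN⟩

lemma Good.torsionSub (h : Good (A := A) E) (I'' : Ideal A) :
    Good (A := A) (torsionSub I'' E) := by
  intro I' f k y hy
  have hy1 : y.1 ∈ DRing.torsionSub (I'' ⊔ I') E := by
    apply mem_torsionSub_sup _ y.2
    obtain ⟨n, hn⟩ := hy
    exact ⟨n, fun a ha => congrArg Subtype.val (hn a ha)⟩
  obtain ⟨y', hy', N, hN⟩ := h (I'' ⊔ I') f k y.1 hy1
  refine ⟨⟨y', torsionSub_anti le_sup_left hy'⟩, ?_, N, Subtype.ext hN⟩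
  obtain ⟨n, hn⟩ := torsionSub_anti (le_sup_right : I' ≤ I'' ⊔ I') hy'
  exact ⟨n, fun a ha => Subtype.ext (hn a ha)⟩

lemma Good.of_equiv (e : E ≃ₗ[A] E') (h : Good (A := A) E) : Good (A := A) E' := by
  intro I' f k y hy
  obtain ⟨y', hy', N, hN⟩ := h I' f k (e.symm y) (map_mem_torsionSub I' e.symm.toLinearMap hy)
  refine ⟨e y', map_mem_torsionSub I' e.toLinearMap hy', N, ?_⟩
  have := congrArg e hN
  rwa [map_smul, map_sub, map_smul, e.apply_symm_apply, map_zero] at this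

lemma Good.prod (h₁ : Good (A := A) E) (h₂ : Good (A := A) E') : Good (A := A) (E × E') := by
  intro I' f k y hy
  obtain ⟨y₁, hy₁, N₁, hN₁⟩ := h₁ I' f k y.1
    (map_mem_torsionSub I' (LinearMap.fst A E E') hy)
  obtain ⟨y₂, hy₂, N₂, hN₂⟩ := h₂ I' f k y.2
    (map_mem_torsionSub I' (LinearMap.snd A E E') hy)
  refine ⟨(y₁, y₂), ?_, N₁ + N₂, ?_⟩
  · obtain ⟨n₁, hn₁⟩ := hy₁
    obtain ⟨n₂, hn₂⟩ := hy₂
    refine ⟨max n₁ n₂, fun a ha => ?_⟩
    apply Prod.ext
    · exact hn₁ a (Ideal.pow_le_pow_right (le_max_left _ _) ha)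
    · exact hn₂ a (Ideal.pow_le_pow_right (le_max_right _ _) ha)
  · apply Prod.ext
    · change f ^ (N₁ + N₂) • (f ^ k • y₁ - y.1) = 0
      rw [add_comm, pow_add, mul_smul, hN₁, smul_zero]
    · change f ^ (N₁ + N₂) • (f ^ k • y₂ - y.2) = 0
      rw [pow_add, mul_smul, hN₂, smul_zero]

end GoodLemmas

section Restrict

variable {B : Type u} [CommRing B] (φ : A →+* B) (E : Type u) [AddCommGroup E] [Module B E]
  [Module A E] (hsm : ∀ (a : A) (y : E), a • y = φ a • y)

include hsm in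
lemma mem_torsionSub_map_iff (I' : Ideal A) (y : E) :
    y ∈ torsionSub (I'.map φ) E ↔ y ∈ torsionSub I' E := by
  constructor
  · rintro ⟨n, hn⟩
    refine ⟨n, fun a ha => ?_⟩
    rw [hsm]
    apply hn
    rw [← Ideal.map_pow]
    exact Ideal.mem_map_of_mem φ ha
  · rintro ⟨n, hn⟩
    refine ⟨n, fun b hb => ?_⟩
    rw [← Ideal.map_pow] at hb
    refine Submodule.span_induction (p := fun b _ => b • y = 0) ?_ ?_ ?_ ?_ hb
    · rintro _ ⟨a, ha, rfl⟩
      rw [← hsm]
      exact hn a ha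
    · exact zero_smul _ _
    · intro b₁ b₂ _ _ h₁ h₂
      rw [add_smul, h₁, h₂, add_zero]
    · intro c b _ h
      rw [smul_eq_mul, mul_smul, h, smul_zero]

include hsm in
lemma Good.restrictScalars (h : Good (A := B) E) : Good (A := A) E := by
  intro I' f k y hy
  obtain ⟨y', hy', N, hN⟩ := h (I'.map φ) (φ f) k y
    ((mem_torsionSub_map_iff φ E hsm I' y).2 hy)
  refine ⟨y', (mem_torsionSub_map_iff φ E hsm I' y').1 hy', N, ?_⟩
  have h1 : ∀ (n : ℕ) (z : E), f ^ n • z = (φ f) ^ n • z := by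
    intro n z
    rw [hsm, map_pow]
  rw [h1, h1]
  exact hN

end Restrict

section T

theorem acycQ_principal_good (f : A) (X : CochainComplex (ModuleCat.{u} A) ℤ)
    (hgood : ∀ n, Good (A := A) (X.X n)) (hX : TorsCoh (Ideal.span {f}) X) :
    AcycQ (Ideal.span {f}) X := by
  intro m n k hmn hnk x hx
  rw [mem_torsionSub_span_singleton] at hx
  obtain ⟨M, hM⟩ := hx
  have hz : (X.d n k).hom (f ^ M • x) = 0 := by rw [map_smul, hM]
  obtain ⟨N, hN⟩ := hX m n k hmn hnk (f ^ M • x) hz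
  obtain ⟨y, hy⟩ := hN (f ^ N) (by
    rw [Ideal.span_singleton_pow]
    exact Ideal.mem_span_singleton_self _)
  obtain ⟨y', N', hy'⟩ := (hgood m).div f (N + M) y
  refine ⟨y', ?_⟩
  rw [mem_torsionSub_span_singleton]
  refine ⟨N' + (N + M), ?_⟩
  have e1 : (X.d m n).hom (f ^ N' • (f ^ (N + M) • y' - y)) = 0 := by rw [hy', map_zero]
  rw [map_smul, map_sub, map_smul, hy] at e1
  have e2 : f ^ (N + M) • x - f ^ (N + M) • (X.d m n).hom y' =
      -(f ^ (N + M) • (X.d m n).hom y' - f ^ N • f ^ M • x) := by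
    rw [neg_sub, pow_add, mul_smul]
  rw [pow_add f N' (N + M), mul_smul, smul_sub (f ^ (N + M)), e2, smul_neg, e1, neg_zero]

theorem acycQ_sup_good (I₁ I₂ : Ideal A)
    (h₁ : ∀ X : CochainComplex (ModuleCat.{u} A) ℤ, (∀ n, Good (A := A) (X.X n)) →
      TorsCoh I₁ X → AcycQ I₁ X)
    (h₂ : ∀ X : CochainComplex (ModuleCat.{u} A) ℤ, (∀ n, Good (A := A) (X.X n)) →
      TorsCoh I₂ X → AcycQ I₂ X)
    (X : CochainComplex (ModuleCat.{u} A) ℤ) (hgood : ∀ n, Good (A := A) (X.X n))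
    (hX : TorsCoh (I₁ ⊔ I₂) X) : AcycQ (I₁ ⊔ I₂) X := by
  have hA2 : AcycQ I₂ X := h₂ X hgood (hX.anti le_sup_right)
  have hgood' : ∀ n, Good (A := A) ((gammaCx I₂ X).X n) :=
    fun n => (hgood n).torsionSub I₂
  have hT1 : TorsCoh I₁ (gammaCx I₂ X) := by
    intro m n k hmn hnk z hz
    obtain ⟨N, hN⟩ := hX m n k hmn hnk z.1 (congrArg Subtype.val hz)
    refine ⟨N, fun a ha => ?_⟩
    obtain ⟨y, hy⟩ := hN a (Ideal.pow_right_mono le_sup_left N ha)
    obtain ⟨w, hw⟩ := hA2 (m - 1) m n (by omega) hmn y (by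
      rw [hy]
      exact Submodule.smul_mem _ _ z.2)
    refine ⟨⟨y - (X.d (m - 1) m).hom w, hw⟩, ?_⟩
    apply Subtype.ext
    change (X.d m n).hom (y - (X.d (m - 1) m).hom w) = a • z.1
    rw [map_sub, d_d_apply, sub_zero, hy]
  have hA1 : AcycQ I₁ (gammaCx I₂ X) := h₁ _ hgood' hT1
  intro m n k hmn hnk x hx
  obtain ⟨y, hy⟩ := hA2 m n k hmn hnk x (torsionSub_anti le_sup_right hx)
  have hx1 : ((gammaCx I₂ X).d n k).hom ⟨x - (X.d m n).hom y, hy⟩ ∈
      torsionSub I₁ ((gammaCx I₂ X).X k) := by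
    obtain ⟨N, hN⟩ := hx
    refine ⟨N, fun a ha => ?_⟩
    apply Subtype.ext
    change a • (X.d n k).hom (x - (X.d m n).hom y) = 0
    rw [map_sub, d_d_apply, sub_zero]
    exact hN a (Ideal.pow_right_mono le_sup_left N ha)
  obtain ⟨y', hy'⟩ := hA1 m n k hmn hnk ⟨x - (X.d m n).hom y, hy⟩ hx1
  refine ⟨y + y'.1, ?_⟩
  have h1 : x - (X.d m n).hom (y + y'.1) =
      ((⟨x - (X.d m n).hom y, hy⟩ - ((gammaCx I₂ X).d m n).hom y' :
        (gammaCx I₂ X).X n)).1 := by
    rw [map_add, ← sub_sub]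
    rfl
  rw [h1]
  apply mem_torsionSub_sup
  · obtain ⟨N, hN⟩ := hy'
    exact ⟨N, fun a ha => congrArg Subtype.val (hN a ha)⟩
  · exact Subtype.property _

/-- for a complex of good modules with `I`-power torsion cohomology (`I` finitely generated), the
quotient by `Γ_I` is acyclic -/
theorem acycQ_good (I : Ideal A) (hI : I.FG) : ∀ X : CochainComplex (ModuleCat.{u} A) ℤ,
    (∀ n, Good (A := A) (X.X n)) → TorsCoh I X → AcycQ I X :=
  Submodule.fg_induction (R := A) (M := A)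
    (motive := fun I _ => ∀ X : CochainComplex (ModuleCat.{u} A) ℤ,
      (∀ n, Good (A := A) (X.X n)) → TorsCoh I X → AcycQ I X)
    (fun f => acycQ_principal_good f) (fun I₁ I₂ _ _ h₁ h₂ => acycQ_sup_good I₁ I₂ h₁ h₂) I hI

theorem quasiIso_gammaIncl_of_torsion_good (I : Ideal A) (hI : I.FG)
    (J : CochainComplex (ModuleCat.{u} A) ℤ) (hgood : ∀ n, Good (A := A) (J.X n))
    (h : ∀ n, LocCoh.IsPowerTorsion I (J.homology n)) : QuasiIso (gammaIncl I J) :=
  quasiIso_gammaIncl I J (acycQ_good I hI J hgood (torsCoh_of_homology I J h))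

lemma good_mappingCone_X {X Y : CochainComplex (ModuleCat.{u} A) ℤ} (ρ : X ⟶ Y)
    (hX : ∀ n, Good (A := A) (X.X n)) (hY : ∀ n, Good (A := A) (Y.X n)) (n : ℤ) :
    Good (A := A) ((mappingCone ρ).X n) := by
  have e := (HomologicalComplex.homotopyCofiber.XIsoBiprod ρ n (n + 1) rfl) ≪≫
    ModuleCat.biprodIsoProd (X.X (n + 1)) (Y.X n)
  exact ((hX (n + 1)).prod (hY n)).of_equiv e.toLinearEquiv.symm

theorem quasiIso_gammaMap_good (I : Ideal A) (hI : I.FG)
    {X Y : CochainComplex (ModuleCat.{u} A) ℤ}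
    (ρ : X ⟶ Y) [QuasiIso ρ] (hX : ∀ n, Good (A := A) (X.X n))
    (hY : ∀ n, Good (A := A) (Y.X n)) : QuasiIso (gammaMap I ρ) := by
  rw [Groth.Agent.Helper5.FlatAcyc.quasiIso_iff_acyclic_cone,
    ← Groth.Agent.Helper5.FlatAcyc.isZero_Q_iff_acyclic]
  have hc : (mappingCone ρ).Acyclic :=
    (Groth.Agent.Helper5.FlatAcyc.quasiIso_iff_acyclic_cone ρ).1 inferInstance
  have hq : QuasiIso (gammaIncl I (mappingCone ρ)) := by
    apply quasiIso_gammaIncl_of_torsion_good I hI _ (good_mappingCone_X ρ hX hY)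
    intro n x
    have hz : IsZero ((mappingCone ρ).homology n) :=
      (HomologicalComplex.exactAt_iff_isZero_homology _ _).1 (hc n)
    haveI := ModuleCat.subsingleton_of_isZero hz
    exact ⟨0, fun a _ => by rw [Subsingleton.elim x 0, smul_zero]⟩
  haveI : IsIso (Q.map (gammaIncl I (mappingCone ρ))) :=
    (DerivedCategory.isIso_Q_map_iff_quasiIso (φ := gammaIncl I (mappingCone ρ))).2 hq
  exact IsZero.of_iso ((Groth.Agent.Helper5.FlatAcyc.isZero_Q_iff_acyclic _).2 hc)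
    ((Q.mapIso (mappingCone.mapHomologicalComplexIso ρ (DRing.gammaI I))).symm ≪≫
      asIso (Q.map (gammaIncl I (mappingCone ρ))))

/-- over a Noetherian ring `RΓ_I` of a complex of good modules is computed termwise -/
theorem nonempty_rgammaIso_good [IsNoetherianRing A] (I : Ideal A) [HasRgammaI I]
    (X : CochainComplex (ModuleCat.{u} A) ℤ) (hX : ∀ n, Good (A := A) (X.X n)) :
    Nonempty ((RgammaI I).obj (Q.obj X) ≅ Q.obj (gammaCx I X)) := by
  obtain ⟨J₂, ρ, hJ₂, hρ, hinj₂⟩ :=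
    Helper5.KInj.exists_kinjective_resolution' (A := ModuleCat.{u} A) X
  haveI := hJ₂
  haveI := hρ
  haveI : IsIso (Q.map ρ) := (DerivedCategory.isIso_Q_map_iff_quasiIso (φ := ρ)).2 hρ
  have hgood₂ : ∀ n, Good (A := A) (J₂.X n) := by
    intro n
    haveI : Injective (ModuleCat.of A (J₂.X n)) := hinj₂ n
    haveI : Module.Injective A (J₂.X n) := Module.injective_module_of_injective_object A (J₂.X n)
    exact good_of_injective
  haveI : QuasiIso (gammaMap I ρ) :=
    quasiIso_gammaMap_good I (IsNoetherian.noetherian I) ρ hX hgood₂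
  haveI : IsIso (Q.map (gammaMap I ρ)) :=
    (DerivedCategory.isIso_Q_map_iff_quasiIso (φ := gammaMap I ρ)).2 inferInstance
  exact ⟨(RgammaI I).mapIso (asIso (Q.map ρ)) ≪≫ rgammaIso I J₂ ≪≫
    (asIso (Q.map (gammaMap I ρ))).symm⟩

end T

end Helper5.RGam
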