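import Mathlib
import Groth.Prelude.Def_DRing3
import Groth.Prelude.Def_Wider
import Groth.Prelude.Def_DualLC
import Groth.Prelude.Def_DDual2
import Groth.Agent.Lib.Helper5.RGam.Good
import Groth.Agent.Lib.Helper5.LC.LocCohColim
import Groth.Agent.Lib.Helper5.DMod.DCRestrict

/-!
# Local cohomology and restriction of scalars (Noetherian case)
-/

set_option autoImplicit false
universe u
open CategoryTheory CategoryTheory.Limits

attribute [local instance] HasDerivedCategory.standard

namespace Helper5.RGam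

open DRing DerivedCategory CochainComplex

/-- the total right derived functor `RΓ_I` exists -/
theorem hasRgammaI {A : Type u} [CommRing A] (I : Ideal A) : DRing.HasRgammaI I := by
  haveI := Helper5.KInj.hasPointwiseRightDerivedFunctor (DRing.gammaIKh I)
    (hasKInjRes_moduleCat (A := A))
  exact Functor.hasRightDerivedFunctor_of_hasPointwiseRightDerivedFunctor _ _

variable {A B : Type u} [CommRing A] [CommRing B] (φ : A →+* B) (I : Ideal A)

/-- restriction of scalars on complexes -/
noncomputable abbrev resCx (J : CochainComplex (ModuleCat.{u} B) ℤ) :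
    CochainComplex (ModuleCat.{u} A) ℤ :=
  ((ModuleCat.restrictScalars.{u} φ).mapHomologicalComplex (ComplexShape.up ℤ)).obj J

lemma mem_torsionSub_res_iff (E : ModuleCat.{u} B)
    (y : (ModuleCat.restrictScalars.{u} φ).obj E) :
    y ∈ torsionSub I ((ModuleCat.restrictScalars.{u} φ).obj E) ↔
      (show E from y) ∈ torsionSub (I.map φ) E := by
  letI : Module A E := Module.compHom E φ
  exact (mem_torsionSub_map_iff φ E (fun _ _ => rfl) I y).symm

/-- `Γ_I (res E) ≃ res (Γ_{IB} E)` -/
noncomputable def gammaResEquiv (E : ModuleCat.{u} B) :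
    torsionSub I ((ModuleCat.restrictScalars.{u} φ).obj E) ≃ₗ[A]
      ((ModuleCat.restrictScalars.{u} φ).obj (ModuleCat.of B (torsionSub (I.map φ) E))) where
  toFun y := ⟨y.1, (mem_torsionSub_res_iff φ I E y.1).1 y.2⟩
  map_add' _ _ := rfl
  map_smul' _ _ := rfl
  invFun y := ⟨y.1, (mem_torsionSub_res_iff φ I E y.1).2 y.2⟩
  left_inv _ := rfl
  right_inv _ := rfl

/-- `Γ_I (res J) ≅ res (Γ_{IB} J)` -/
noncomputable def gammaResIso (J : CochainComplex (ModuleCat.{u} B) ℤ) :
    gammaCx I (resCx φ J) ≅ resCx φ (gammaCx (I.map φ) J) :=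
  HomologicalComplex.Hom.isoOfComponents
    (fun n => (gammaResEquiv φ I (J.X n)).toModuleIso) (by
      intro i j _
      ext x
      apply Subtype.ext
      rfl)

/-- restriction of a linear equivalence of `B`-modules to `A` -/
def resLinearEquiv {X : Type*} {Y : Type*} [AddCommGroup X] [Module B X] [AddCommGroup Y]
    [Module B Y] (e : X ≃ₗ[B] Y) :
    letI : Module A X := Module.compHom X φ
    letI : Module A Y := Module.compHom Y φ
    X ≃ₗ[A] Y :=
  letI : Module A X := Module.compHom X φ
  letI : Module A Y := Module.compHom Y φ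
  { toFun := e
    map_add' := e.map_add
    map_smul' := fun a x => e.map_smul (φ a) x
    invFun := e.symm
    left_inv := e.left_inv
    right_inv := e.right_inv }

/-- `RΓ_I` commutes with restriction of scalars (Noetherian rings) -/
theorem nonempty_rgamma_restrict_iso [IsNoetherianRing A] [IsNoetherianRing B]
    [HasRgammaI I] [HasRgammaI (I.map φ)] (K : Dual.D B) :
    Nonempty ((RgammaI I).obj ((DRing.restrictD φ).obj K) ≅
      (DRing.restrictD φ).obj ((RgammaI (I.map φ)).obj K)) := by
  obtain ⟨J, f, hJ, hf, hinj⟩ :=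
    Helper5.KInj.exists_kinjective_resolution' (A := ModuleCat.{u} B) (Q.objPreimage K)
  haveI := hJ
  haveI : IsIso (Q.map f) := (DerivedCategory.isIso_Q_map_iff_quasiIso (φ := f)).2 hf
  let e : K ≅ Q.obj J := (Q.objObjPreimageIso K).symm ≪≫ asIso (Q.map f)
  have hgoodB : ∀ n, Good (A := B) (J.X n) := by
    intro n
    haveI : Injective (ModuleCat.of B (J.X n)) := hinj n
    haveI : Module.Injective B (J.X n) := Module.injective_module_of_injective_object B (J.X n)
    exact good_of_injective
  have hgood : ∀ n, Good (A := A) ((resCx φ J).X n) := by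
    intro n
    letI : Module A (J.X n) := Module.compHom (J.X n) φ
    exact Good.restrictScalars φ (J.X n) (fun _ _ => rfl) (hgoodB n)
  obtain ⟨e2⟩ := nonempty_rgammaIso_good I (resCx φ J) hgood
  let F := (ModuleCat.restrictScalars.{u} φ)
  exact ⟨(RgammaI I).mapIso ((DRing.restrictD φ).mapIso e ≪≫ F.mapDerivedCategoryFactors.app J) ≪≫
    e2 ≪≫ Q.mapIso (gammaResIso φ I J) ≪≫
    (F.mapDerivedCategoryFactors.app (gammaCx (I.map φ) J)).symm ≪≫
    (DRing.restrictD φ).mapIso ((rgammaIso (I.map φ) J).symm ≪≫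
      ((RgammaI (I.map φ)).mapIso e).symm)⟩

/-- **S1804** -/
theorem hdi_restrict [IsNoetherianRing A] [IsNoetherianRing B] (K : Dual.D B) (i : ℤ) :
    Nonempty (Dual2.HDI A I ((DRing.restrictD φ).obj K) i ≅
      (ModuleCat.restrictScalars φ).obj (Dual2.HDI B (I.map φ) K i)) := by
  haveI := hasRgammaI I
  haveI := hasRgammaI (I.map φ)
  obtain ⟨E1⟩ := Helper5.LC.main I i ((DRing.restrictD φ).obj K)
  obtain ⟨E2⟩ := Helper5.LC.main (I.map φ) i K
  obtain ⟨e3⟩ := nonempty_rgamma_restrict_iso φ I K
  let E3 : Dual.HD A ((RgammaI I).obj ((DRing.restrictD φ).obj K)) i ≃ₗ[A]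
      Dual.HD A ((DRing.restrictD φ).obj ((RgammaI (I.map φ)).obj K)) i :=
    ((DerivedCategory.homologyFunctor (ModuleCat.{u} A) i).mapIso e3).toLinearEquiv
  let E4 := Helper5.DMod.HDrestrictEquiv φ ((RgammaI (I.map φ)).obj K) i
  let E5 : ((ModuleCat.restrictScalars φ).obj
        ((DerivedCategory.homologyFunctor (ModuleCat.{u} B) i).obj ((RgammaI (I.map φ)).obj K))) ≃ₗ[A]
      ((ModuleCat.restrictScalars φ).obj (Dual2.HDI B (I.map φ) K i)) := resLinearEquiv φ E2
  exact ⟨(E1.symm.trans (E3.trans (E4.trans E5))).toModuleIso⟩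

end Helper5.RGam
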