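import Mathlib
import Groth.Prelude.Def_Wider

set_option autoImplicit false
universe u v w
open CategoryTheory

namespace Helper5.RGam

open TensorProduct
open scoped ChangeOfRings

variable {A : Type u} {B : Type u} [CommRing A] [CommRing B] (φ : A →+* B) (I : Ideal A)

set_option backward.isDefEq.respectTransparency false in
lemma algebraMap_smul_tmul (M : ModuleCat.{v} A) (a : A) (b : B) (m : M) :
    (φ a • (b ⊗ₜ[A,φ] m : (ModuleCat.extendScalars φ).obj M)) = b ⊗ₜ[A,φ] (a • m) := by
  rw [ModuleCat.ExtendScalars.smul_tmul]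
  exact TensorProduct.smul_tmul (R := A) (R' := A)
    (M := (ModuleCat.restrictScalars φ).obj (ModuleCat.of B B)) a b m

set_option backward.isDefEq.respectTransparency false in
theorem isPowerTorsion_extendScalars (M : ModuleCat.{v} A) (hM : LocCoh.IsPowerTorsion I M) :
    LocCoh.IsPowerTorsion (I.map φ) ((ModuleCat.extendScalars φ).obj M) := by
  have key : ∀ x : (ModuleCat.extendScalars φ).obj M, ∃ N : ℕ, ∀ a ∈ I ^ N, φ a • x = 0 := by
    intro x
    refine TensorProduct.induction_on
      (motive := fun x => ∃ N : ℕ, ∀ a ∈ I ^ N,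
        φ a • (show (ModuleCat.extendScalars φ).obj M from x) = 0) x ?_ ?_ ?_
    · exact ⟨0, fun a _ => smul_zero _⟩
    · intro b m
      obtain ⟨N, hN⟩ := hM m
      refine ⟨N, fun a ha => ?_⟩
      have := algebraMap_smul_tmul φ M a b m
      rw [hN a ha, TensorProduct.tmul_zero] at this
      exact this
    · intro x y hx hy
      obtain ⟨N₁, h₁⟩ := hx
      obtain ⟨N₂, h₂⟩ := hy
      refine ⟨max N₁ N₂, fun a ha => ?_⟩
      have h3 : φ a • ((show (ModuleCat.extendScalars φ).obj M from x) +
          (show (ModuleCat.extendScalars φ).obj M from y)) = 0 := by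
        rw [smul_add, h₁ a (Ideal.pow_le_pow_right (le_max_left _ _) ha),
          h₂ a (Ideal.pow_le_pow_right (le_max_right _ _) ha), add_zero]
      exact h3
  intro x
  obtain ⟨N, hN⟩ := key x
  refine ⟨N, ?_⟩
  have h1 : (I.map φ) ^ N ≤ Ideal.torsionOf B _ x := by
    rw [← Ideal.map_pow, Ideal.map_le_iff_le_comap]
    intro a ha
    rw [Ideal.mem_comap, Ideal.mem_torsionOf_iff]
    exact hN a ha
  intro c hc
  exact (Ideal.mem_torsionOf_iff x c).1 (h1 hc)

set_option backward.isDefEq.respectTransparency false in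
/-- extension of scalars of a linear equivalence, across universes -/
noncomputable def extendScalarsLinearEquiv {M : ModuleCat.{v} A} {N : ModuleCat.{w} A}
    (e : M ≃ₗ[A] N) :
    (ModuleCat.extendScalars φ).obj M ≃ₗ[B] (ModuleCat.extendScalars φ).obj N :=
  @LinearEquiv.baseChange A B M N _ _ ((algebraMap B _).comp φ).toAlgebra _ _ _ _ e

end Helper5.RGam
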