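import Mathlib
import Groth.Prelude.Def_DRing3
import Groth.Prelude.Def_Wider
import Groth.Agent.Lib.Helper5.RGam.GMa
import Groth.Agent.Lib.Helper5.RGam.Restrict
import Groth.Agent.Lib.Helper5.LC.LocCohColim
import Groth.Agent.Lib.Helper3.BCDual
import Groth.Agent.Lib.Helper5.RGam.TorsBC

/-!
# Flat base change for `RΓ_I`
-/

set_option autoImplicit false
universe u
open CategoryTheory CategoryTheory.Limits Pretriangulated

attribute [local instance] HasDerivedCategory.standard

namespace Helper5.RGam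

open DRing DerivedCategory CochainComplex Helper5.DMod Helper5.DComp
  Groth.Agent.Helper3.BCDer Groth.Agent.Helper3.BCDual

section Nt

variable {B : Type u} [CommRing B] (J : Ideal B)

/-- right orthogonal of the torsion objects -/
def Nt (W : Dual.D B) : Prop :=
  ∀ T : (Ptors J).FullSubcategory, ∀ g : T.obj ⟶ W, g = 0

variable {J}

lemma ptors_shift (T : (Ptors J).FullSubcategory) (n : ℤ) : Ptors J (T.obj⟦n⟧) := by
  intro i
  have e : Dual.HD B (T.obj⟦n⟧) i ≃ₗ[B] Dual.HD B T.obj (n + i) :=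
    (((DerivedCategory.homologyFunctor (ModuleCat.{u} B) 0).shiftIso n i (n + i) rfl).app
      T.obj).toLinearEquiv
  exact isPowerTorsion_of_equiv J e.symm (T.property (n + i))

lemma Nt.shift {W : Dual.D B} (hW : Nt J W) (n : ℤ) : Nt J (W⟦n⟧) := by
  intro T g
  let e := (shiftEquiv (Dual.D B) n).symm.toAdjunction
  -- `Hom(T, W⟦n⟧) ≃ Hom(T⟦-n⟧, W)`
  have h1 : ∀ g' : T.obj⟦-n⟧ ⟶ W, g' = 0 := fun g' => hW ⟨T.obj⟦-n⟧, ptors_shift T (-n)⟩ g'
  apply (e.homEquiv T.obj W).symm.injective
  rw [h1 ((e.homEquiv T.obj W).symm g)]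
  exact (h1 _).symm

lemma Nt.of_triangle (T' : Triangle (Dual.D B)) (hT' : T' ∈ distTriang (Dual.D B))
    (h₁ : Nt J T'.obj₁) (h₃ : Nt J T'.obj₃) : Nt J T'.obj₂ := by
  intro T g
  obtain ⟨g', hg'⟩ := Triangle.coyoneda_exact₂ _ hT' g (h₃ T _)
  rw [hg', h₁ T g', zero_comp]

variable [IsNoetherianRing B] [HasRgammaI J]

lemma Nt.of_isIso_smul (f : B) (hf : f ∈ J) (W : Dual.D B) [IsIso (f • 𝟙 W)] : Nt J W :=
  fun T g => hom_torsion_eq_zero J T W (isZero_rgamma_of_isIso_smul J f hf W) g

end Nt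

section BC

variable {A : Type u} [CommRing A] (B : Type u) [CommRing B] [Algebra A B] [Module.Flat A B]

lemma isIso_smul_G (f : A) (X : Dual.D A) [IsIso (f • 𝟙 X)] :
    IsIso (algebraMap A B f • 𝟙 ((G (A := A) B).obj X)) := by
  have h := semiLinear_G B f (𝟙 X)
  rw [CategoryTheory.Functor.map_id] at h
  rw [← h]
  infer_instance

variable [IsNoetherianRing A] [IsNoetherianRing B] (I : Ideal A)
  [HasRgammaI (I.map (algebraMap A B))]

/-- the base change of `X / Γ_{I'} X` is right orthogonal to the `IB`-torsion objects -/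
theorem Nt_G_quotCx (I' : Ideal A) : I' ≤ I → ∀ X : CochainComplex (ModuleCat.{u} A) ℤ,
    (∀ n, Module.Injective A (X.X n)) →
      Nt (I.map (algebraMap A B)) ((G (A := A) B).obj (Q.obj (quotCx I' X))) := by
  refine Submodule.fg_induction (R := A) (M := A)
    (motive := fun I' _ => I' ≤ I → ∀ X : CochainComplex (ModuleCat.{u} A) ℤ,
      (∀ n, Module.Injective A (X.X n)) →
        Nt (I.map (algebraMap A B)) ((G (A := A) B).obj (Q.obj (quotCx I' X)))) ?_ ?_ I'
    (IsNoetherian.noetherian I')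
  · intro f hf X hinj
    haveI := isIso_smul_quotCx f X hinj
    haveI : IsIso (f • 𝟙 (Q.obj (quotCx (Ideal.span {f}) X))) := by
      have h : Q.map (f • 𝟙 (quotCx (Ideal.span {f}) X)) =
          f • 𝟙 (Q.obj (quotCx (Ideal.span {f}) X)) := by
        rw [Functor.map_smul, CategoryTheory.Functor.map_id]
      rw [← h]
      infer_instance
    haveI := isIso_smul_G B f (Q.obj (quotCx (Ideal.span {f}) X))
    exact Nt.of_isIso_smul (algebraMap A B f)
      (Ideal.mem_map_of_mem _ (hf (Ideal.mem_span_singleton_self f))) _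
  · intro I₁ I₂ _ _ h₁ h₂ hle X hinj
    have hinj' : ∀ n, Module.Injective A ((gammaCx I₂ X).X n) :=
      fun n => haveI := hinj n; injective_torsionSub I₂ (X.X n)
    have hT := triangleOfSES_distinguished (supSC_shortExact I₁ I₂ X)
    have hT' := (G (A := A) B).map_distinguished _ hT
    exact Nt.of_triangle _ hT' (h₁ (le_sup_left.trans hle) (gammaCx I₂ X) hinj')
      (h₂ (le_sup_right.trans hle) X hinj)

omit [IsNoetherianRing A] [IsNoetherianRing B] [HasRgammaI (I.map (algebraMap A B))] in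
/-- base change of a torsion object is torsion -/
lemma ptors_G (L : Dual.D A) (hL : Ptors I L) :
    Ptors (I.map (algebraMap A B)) ((G (A := A) B).obj L) := by
  intro i
  have e := (homologyGIso B L i).toLinearEquiv
  exact isPowerTorsion_of_equiv _ e.symm
    (isPowerTorsion_extendScalars (algebraMap A B) I _ (hL i))

variable [HasRgammaI I]

/-- **flat base change**: `(RΓ_I K) ⊗_A B ≅ RΓ_{IB}(K ⊗_A B)` -/
theorem nonempty_G_rgamma_iso (K : Dual.D A) :
    Nonempty ((G (A := A) B).obj ((RgammaI I).obj K) ≅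
      (RgammaI (I.map (algebraMap A B))).obj ((G (A := A) B).obj K)) := by
  obtain ⟨J, f, hJ, hf, hinj⟩ :=
    Helper5.KInj.exists_kinjective_resolution' (A := ModuleCat.{u} A) (Q.objPreimage K)
  haveI := hJ
  haveI : IsIso (Q.map f) := (DerivedCategory.isIso_Q_map_iff_quasiIso (φ := f)).2 hf
  let e : K ≅ Q.obj J := (Q.objObjPreimageIso K).symm ≪≫ asIso (Q.map f)
  have hinj' : ∀ n, Module.Injective A (J.X n) := by
    intro n
    haveI : Injective (ModuleCat.of A (J.X n)) := hinj n
    exact Module.injective_module_of_injective_object A (J.X n)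
  have hΓ : Ptors I (Q.obj (gammaCx I J)) := fun i =>
    isPowerTorsion_of_equiv I (Helper5.DComp.HDQEquiv (gammaCx I J) i).symm
      (isPowerTorsion_homology_gammaCx I J i)
  have hT₀ := ptors_G B I _ hΓ
  have hT := triangleOfSES_distinguished (gammaSC_shortExact I J)
  have hT' := (G (A := A) B).map_distinguished _ hT
  have hN := Nt_G_quotCx B I I le_rfl J hinj'
  have hu : ∀ T : (Ptors (I.map (algebraMap A B))).FullSubcategory,
      Function.Bijective (fun g : T.obj ⟶ (G (A := A) B).obj (Q.obj (gammaCx I J)) =>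
        g ≫ (G (A := A) B).map (Q.map (gammaIncl I J))) := fun T =>
    bijective_postcomp _ hT' T.obj (fun g => hN T g) (fun g => (hN.shift (-1)) T g)
  have hR := isPowerTorsion_RgammaI (I.map (algebraMap A B)) ((G (A := A) B).obj (Q.obj J))
  have hΦ := Φ_bijective (I.map (algebraMap A B))
  obtain ⟨a', ha'⟩ := (hΦ ⟨_, hT₀⟩ ((G (A := A) B).obj (Q.obj J))).2
    ((G (A := A) B).map (Q.map (gammaIncl I J)))
  obtain ⟨b, hb⟩ := (hu ⟨_, hR⟩).2
    ((RgammaIε (I.map (algebraMap A B))).app ((G (A := A) B).obj (Q.obj J)))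
  have ha : a'.hom ≫ (RgammaIε (I.map (algebraMap A B))).app ((G (A := A) B).obj (Q.obj J)) =
      (G (A := A) B).map (Q.map (gammaIncl I J)) := ha'
  simp only at hb
  have h1 : a'.hom ≫ b = 𝟙 _ := by
    apply (hu ⟨_, hT₀⟩).1
    simp only
    rw [Category.assoc, hb, ha, Category.id_comp]
  have h2 : b ≫ a'.hom = 𝟙 _ := by
    have h3 : (ObjectProperty.homMk (b ≫ a'.hom) :
        (⟨_, hR⟩ : (Ptors (I.map (algebraMap A B))).FullSubcategory) ⟶
          (Rlift (I.map (algebraMap A B))).obj ((G (A := A) B).obj (Q.obj J))) =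
        ObjectProperty.homMk (𝟙 _) := by
      apply (hΦ ⟨_, hR⟩ ((G (A := A) B).obj (Q.obj J))).1
      change (b ≫ a'.hom) ≫ _ = 𝟙 _ ≫ _
      rw [Category.assoc, ha, hb, Category.id_comp]
    exact congrArg (fun t => t.hom) h3
  let e₀ : (G (A := A) B).obj (Q.obj (gammaCx I J)) ≅
      (RgammaI (I.map (algebraMap A B))).obj ((G (A := A) B).obj (Q.obj J)) :=
    ⟨a'.hom, b, h1, h2⟩
  exact ⟨(G (A := A) B).mapIso ((RgammaI I).mapIso e ≪≫ rgammaIso I J) ≪≫ e₀ ≪≫
    (RgammaI (I.map (algebraMap A B))).mapIso ((G (A := A) B).mapIso e.symm)⟩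

end BC

/-- **S1805** -/
theorem hdi_flat_baseChange (A B : Type u) [CommRing A] [CommRing B] [Algebra A B]
    [IsNoetherianRing A] [IsNoetherianRing B] [Module.Flat A B]
    [DRing.HasLBaseChange (algebraMap A B)] (I : Ideal A) (K : Dual.D A) (i : ℤ) :
    Nonempty (Dual2.HDI B (I.map (algebraMap A B))
        ((DRing.LBaseChange (algebraMap A B)).obj K) i ≅
      (ModuleCat.extendScalars (algebraMap A B)).obj (Dual2.HDI A I K i)) := by
  haveI := hasRgammaI I
  haveI := hasRgammaI (I.map (algebraMap A B))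
  obtain ⟨E1⟩ := Helper5.LC.main (I.map (algebraMap A B)) i
    ((DRing.LBaseChange (algebraMap A B)).obj K)
  obtain ⟨E2⟩ := Helper5.LC.main I i K
  obtain ⟨e3⟩ := nonempty_G_rgamma_iso B I K
  let eL : (DRing.LBaseChange (algebraMap A B)).obj K ≅ (G (A := A) B).obj K :=
    (lbcIsoG B).app K
  let E3 : Dual.HD B ((RgammaI (I.map (algebraMap A B))).obj
        ((DRing.LBaseChange (algebraMap A B)).obj K)) i ≃ₗ[B]
      Dual.HD B ((G (A := A) B).obj ((RgammaI I).obj K)) i :=
    ((DerivedCategory.homologyFunctor (ModuleCat.{u} B) i).mapIso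
      ((RgammaI (I.map (algebraMap A B))).mapIso eL ≪≫ e3.symm)).toLinearEquiv
  let E4 := (homologyGIso B ((RgammaI I).obj K) i).toLinearEquiv
  let E5 := extendScalarsLinearEquiv (algebraMap A B)
    (M := (DerivedCategory.homologyFunctor (ModuleCat.{u} A) i).obj ((RgammaI I).obj K))
    (N := Dual2.HDI A I K i) E2
  exact ⟨(E1.symm.trans (E3.trans (E4.trans E5))).toModuleIso⟩

end Helper5.RGam
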