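import Mathlib
import Groth.Prelude.Def_DCoh3
import Groth.Prelude.Def_CohB1
import Groth.Agent.Lib.Helper3.RDPlus
import Groth.Agent.Lib.Helper5.MV.MVTri
import Groth.Agent.Lib.Helper5.MV.Glue
import Groth.Agent.Lib.Helper5.MV.Flasque
import Groth.Agent.Lib.Helper5.QC.RpushQC
import Groth.Agent.Lib.Helper5.QC.DQCTri
import Groth.Agent.Lib.Helper5.Stalk.RpushSupp
import Groth.Agent.Lib.Helper5.Perf.PerfCoh

/-!
# `RΓ_Z` on `D^+` preserves `D_QCoh` and has supports in `Z` (helper5)
-/

set_option autoImplicit false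
universe u
open CategoryTheory CategoryTheory.Limits AlgebraicGeometry Opposite TopologicalSpace
open Pretriangulated

attribute [local instance] HasDerivedCategory.standard

namespace Groth.Agent.Lib.Helper5.GammaZ

open Groth.Agent.Lib.Helper5.MV Groth.Agent.Lib.Helper5.QC Groth.Agent.Helper3.KInjDer
  Groth.Agent.Lib.Helper5.RpushSupp Groth.Agent.Lib.Helper5.RpushRes
  Groth.Agent.Helper3.RDPlus Groth.Agent.Lib.Helper5.PerfCoh Groth.Agent.Lib.Helper5.LocalCoh

variable {X : Scheme.{u}} (U : X.Opens)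

/-- the inclusion `Γ_Z F ⟶ F` -/
noncomputable def gammaZι : DCoh.gammaZ U.ι ⟶ 𝟭 X.Modules where
  app F := kernel.ι ((ηU U).app F)
  naturality {F G} φ := by
    simp [DCoh.gammaZ]

/-- the complex `Γ_Z I` -/
noncomputable abbrev ΓZC : CochainComplex X.Modules ℤ ⥤ CochainComplex X.Modules ℤ :=
  (DCoh.gammaZ U.ι).mapHomologicalComplex (ComplexShape.up ℤ)

/-- the inclusion of complexes `Γ_Z I ⟶ I` -/
noncomputable def ιZC (I : CochainComplex X.Modules ℤ) : (ΓZC U).obj I ⟶ I :=
  (NatTrans.mapHomologicalComplex (gammaZι U) (ComplexShape.up ℤ)).app I ≫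
    (Functor.mapHomologicalComplexIdIso X.Modules (ComplexShape.up ℤ)).hom.app I

/-- the unit on an injective module is an epimorphism -/
theorem epi_ηU_of_injective (M : X.Modules) [Injective M] : Epi ((ηU U).app M) := by
  apply epi_of_app_surjective
  intro T
  rw [ηU_app_app]
  exact surjective_res_of_injective M (cap_le U T)

theorem ιZC_f (I : CochainComplex X.Modules ℤ) (n : ℤ) :
    (ιZC U I).f n = kernel.ι ((ηU U).app (I.X n)) := by
  simp [ιZC, gammaZι]
  exact Category.comp_id _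

theorem ηC_f (I : CochainComplex X.Modules ℤ) (n : ℤ) :
    ((ηC U).app I).f n = (ηU U).app (I.X n) := by
  simp [ηC]
  exact Category.id_comp _

/-- the short complex `Γ_Z I ⟶ I ⟶ j_* j^* I` -/
noncomputable def sesZ (I : CochainComplex X.Modules ℤ) :
    ShortComplex (CochainComplex X.Modules ℤ) :=
  ShortComplex.mk (ιZC U I) ((ηC U).app I) (by
    ext n : 1
    rw [HomologicalComplex.comp_f, ιZC_f, ηC_f, HomologicalComplex.zero_f]
    exact kernel.condition _)

theorem shortExact_sesZ (I : CochainComplex X.Modules ℤ) (hI : ∀ n, Injective (I.X n)) :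
    (sesZ U I).ShortExact := by
  apply HomologicalComplex.shortExact_of_degreewise_shortExact
  intro n
  haveI := hI n
  let S' : ShortComplex X.Modules :=
    ShortComplex.mk (kernel.ι ((ηU U).app (I.X n))) ((ηU U).app (I.X n)) (kernel.condition _)
  have hS' : S'.ShortExact :=
    ShortComplex.ShortExact.mk' (ShortComplex.exact_of_f_is_kernel _ (kernelIsKernel _))
      (equalizer.ι_mono) (epi_ηU_of_injective U (I.X n))
  refine ShortComplex.shortExact_of_iso ?_ hS'
  exact ShortComplex.isoMk (Iso.refl _) (Iso.refl _) (Iso.refl _)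
    (by
      show 𝟙 _ ≫ (ιZC U I).f n = kernel.ι ((ηU U).app (I.X n)) ≫ 𝟙 _
      rw [ιZC_f, Category.id_comp, Category.comp_id])
    (by
      show 𝟙 _ ≫ ((ηC U).app I).f n = (ηU U).app (I.X n) ≫ 𝟙 _
      rw [ηC_f, Category.id_comp, Category.comp_id])

theorem subsingleton_stalk_of_iso {M N : X.Modules} (e : M ≅ N) (x : X)
    (h : Subsingleton (N.presheaf.stalk x)) : Subsingleton (M.presheaf.stalk x) := by
  let e' := (Scheme.Modules.toPresheaf X ⋙ TopCat.Presheaf.stalkFunctor AddCommGrpCat.{u} x).mapIso e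
  haveI : Subsingleton ↑((Scheme.Modules.toPresheaf X ⋙
      TopCat.Presheaf.stalkFunctor AddCommGrpCat.{u} x).obj N) := h
  exact (ConcreteCategory.bijective_of_isIso e'.hom).injective.subsingleton

/-- `Γ_Z F` vanishes on `U` -/
theorem isZero_restrict_gammaZ (F : X.Modules) :
    IsZero ((Scheme.Modules.restrictFunctor U.ι).obj ((DCoh.gammaZ U.ι).obj F)) := by
  haveI := isIso_restrict_ηU U F
  have e : (Scheme.Modules.restrictFunctor U.ι).obj (kernel ((ηU U).app F)) ≅
      kernel ((Scheme.Modules.restrictFunctor U.ι).map ((ηU U).app F)) :=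
    PreservesKernel.iso _ _
  exact IsZero.of_iso (isZero_kernel_of_mono _) e

/-- the cohomology sheaves of `Γ_Z I` are supported in the complement of `U` -/
theorem support_HD_ΓZC (I : CochainComplex X.Modules ℤ) (i : ℤ) :
    CohB1.support (DCoh.HD (DerivedCategory.Q.obj ((ΓZC U).obj I)) i) ⊆ (U : Set X)ᶜ := by
  intro x hx hxU
  apply hx
  refine subsingleton_stalk_of_isZero_restrict _ U ?_ x hxU
  let K := (ΓZC U).obj I
  refine IsZero.of_iso ?_ (hdModelIso (DerivedCategory.Q.obj K) K (Iso.refl _) U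
    ((DCoh.restrictCx U).obj K) (Iso.refl _) i)
  exact ShortComplex.isZero_homology_of_isZero_X₂ _ (isZero_restrict_gammaZ U (I.X i))

variable [QuasiCompact U.ι]

/-- `Γ_Z I` has quasi-coherent cohomology if `I` is a bounded-below complex of injectives with
quasi-coherent cohomology -/
theorem isQCohD_ΓZC (I : CochainComplex X.Modules ℤ) (hI : ∀ n, Injective (I.X n))
    [I.IsKInjective] (hq : DCoh.IsQCohD (DerivedCategory.Q.obj I)) :
    DCoh.IsQCohD (DerivedCategory.Q.obj ((ΓZC U).obj I)) := by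
  have hS := shortExact_sesZ U I hI
  have hT := DerivedCategory.triangleOfSES_distinguished hS
  haveI : DCoh.HasRpush U.ι := hasRightDerivedFunctor (DCoh.pushKh U.ι)
  have e3 : DerivedCategory.Q.obj ((GC U).obj I) ≅
      (DCoh.Rpush U.ι).obj ((DCoh.restrictD U.ι).obj (DerivedCategory.Q.obj I)) :=
    DerivedCategory.Q.mapIso
      ((NatIso.mapHomologicalComplex (Scheme.Modules.pushforwardId X) (ComplexShape.up ℤ)).app
        ((GC U).obj I)).symm ≪≫
      vertexIso (𝟙 X) U U.ι (Category.comp_id _).symm I (DerivedCategory.Q.obj I) (Iso.refl _)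
  have h3 : DCoh.IsQCohD (DerivedCategory.Q.obj ((GC U).obj I)) :=
    isQCohD_of_iso e3.symm (isQCohD_rpush U.ι _ (isQCohD_restrictD U _ hq))
  exact isQCohD_of_triangle_left _ hT hq h3

/-- **`RΓ_Z` preserves `D_QCoh^+` and has supports in `Z`** -/
theorem main [EnoughInjectives X.Modules] (E : DerivedCategory.Plus X.Modules)
    (hE : DCoh.IsQCohD E.obj) :
    DCoh.IsQCohD ((DCoh.RgammaZPlus U.ι).obj E).obj ∧
      ∀ i : ℤ, CohB1.support (DCoh.HD ((DCoh.RgammaZPlus U.ι).obj E).obj i) ⊆ (U : Set X)ᶜ := by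
  obtain ⟨I, ⟨e⟩⟩ := QI_essSurj E
  obtain ⟨L, rfl⟩ := HomotopyCategory.Plus.quotient_obj_surjective I
  let I₀ : CochainComplex X.Modules ℤ :=
    ((InjectiveObject.ι X.Modules).mapHomologicalComplex (ComplexShape.up ℤ)).obj L.obj
  have hinj : ∀ n, Injective (I₀.X n) := fun n => (L.obj.X n).2
  haveI : I₀.IsKInjective := by
    obtain ⟨n, hn⟩ := L.2
    haveI : I₀.IsStrictlyGE n := by
      dsimp only [I₀]
      infer_instance
    haveI : ∀ i, Injective (I₀.X i) := hinj
    exact CochainComplex.isKInjective_of_injective I₀ n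
  let eE : E.obj ≅ DerivedCategory.Q.obj I₀ := DerivedCategory.Plus.ι.mapIso e.symm
  let eR : ((DCoh.RgammaZPlus U.ι).obj E).obj ≅ DerivedCategory.Q.obj ((ΓZC U).obj I₀) :=
    DerivedCategory.Plus.ι.mapIso
      ((DCoh.RgammaZPlus U.ι).mapIso e.symm ≪≫
        (ηI (DCoh.gammaZ U.ι) ((HomotopyCategory.Plus.quotient _).obj L)).symm)
  have hq : DCoh.IsQCohD (DerivedCategory.Q.obj I₀) := isQCohD_of_iso eE hE
  refine ⟨isQCohD_of_iso eR.symm (isQCohD_ΓZC U I₀ hinj hq), fun i => ?_⟩
  intro x hx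
  apply support_HD_ΓZC U I₀ i
  intro hs
  exact hx (subsingleton_stalk_of_iso ((DerivedCategory.homologyFunctor _ i).mapIso eR) x hs)

end Groth.Agent.Lib.Helper5.GammaZ
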